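import Groth.Agent.GrpQ.H766.AffineBase
import Groth.Agent.Grpsch.QuotPoints
import Groth.Agent.Grpsch.Restrict
import Groth.Agent.Grpsch.GrpdPt
import Groth.Agent.Grpsch.PtRestrict
import Mathlib.AlgebraicGeometry.Morphisms.Integral

/-!
# The geometric quotient of an affine finite locally free groupoid; invariant affine opens
-/

set_option autoImplicit false
universe u
open CategoryTheory CategoryTheory.Limits AlgebraicGeometry TopologicalSpace

namespace Groth.Agent.GrpQ.H766.AffineCase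

open Groth.Agent.GrpQ.H766.GeomQuotDef Groth.Agent.GrpQ.H766.GeomQuotLocal
open Groth.Agent.Grpsch Groth.Agent.Grpsch.Restrict

variable {S : Scheme.{u}} (G : Grpd.GroupoidScheme S)

theorem toQuot_appTop : G.toQuot.appTop =
    (Scheme.ΓSpecIso (CommRingCat.of G.invariants)).hom ≫ CommRingCat.ofHom G.invariants.subtype := by
  rw [Grpd.GroupoidScheme.toQuot, Scheme.Hom.comp_appTop, Scheme.toSpecΓ_appTop,
    Scheme.ΓSpecIso_naturality]

section

variable [IsAffine G.U] [IsAffine G.R] [IsFinite G.s] [Flat G.s]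
  [LocallyOfFinitePresentation G.s] [IsFinite G.t] [Flat G.t] [LocallyOfFinitePresentation G.t]

theorem isIntegralHom_toQuot : IsIntegralHom G.toQuot := by
  have h1 : IsIntegralHom (Spec.map (CommRingCat.ofHom G.invariants.subtype)) := by
    rw [IsIntegralHom.SpecMap_iff]
    exact (Groth.Agent.S1879.result S G).isIntegral
  rw [Grpd.GroupoidScheme.toQuot]
  infer_instance

/-- The quotient of an affine finite locally free groupoid is a geometric quotient. -/
theorem isGeomQuot_toQuot : IsGeomQuot G.s G.t G.toQuot := by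
  have hint := isIntegralHom_toQuot G
  refine AffineBase.isGeomQuot_of_isAffine G.s G.t G.toQuot (AffGrpd.t_toQuot G) ?_ ?_ ?_ ?_
  · exact G.toQuot.isClosedMap.isQuotientMap G.toQuot.continuous (AffGrpd.toQuot_surjective G)
  · exact fun x y hxy => (AffGrpd.toQuot_eq_iff G x y).mp hxy
  · rw [toQuot_appTop]
    intro a b hab
    have h1 := Subtype.val_injective (p := fun x => x ∈ G.invariants) hab
    exact (ConcreteCategory.bijective_of_isIso
      (Scheme.ΓSpecIso (CommRingCat.of G.invariants)).hom).1 h1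
  · intro a ha
    refine ⟨(Scheme.ΓSpecIso (CommRingCat.of G.invariants)).inv (⟨a, ha⟩ : G.invariants), ?_⟩
    rw [toQuot_appTop, CommRingCat.comp_apply, ← CommRingCat.comp_apply _
      (Scheme.ΓSpecIso (CommRingCat.of G.invariants)).hom, Iso.inv_hom_id]
    rfl

end

section restrict

variable (V : G.U.Opens)

instance : IsOpenImmersion (toR G V.ι) := by
  unfold toR; infer_instance

theorem opensRange_toR (hV : G.s ⁻¹ᵁ V = G.t ⁻¹ᵁ V) : (toR G V.ι).opensRange = G.s ⁻¹ᵁ V := by
  apply le_antisymm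
  · rintro _ ⟨x, rfl⟩
    have : G.s (toR G V.ι x) = V.ι (src G V.ι x) := by
      rw [← Scheme.Hom.comp_apply, toR_s, Scheme.Hom.comp_apply]
    change G.s (toR G V.ι x) ∈ V
    rw [this]
    exact (src G V.ι x).2
  · intro r hr
    have hs : G.s r ∈ V := hr
    have ht : G.t r ∈ V := by
      rw [hV] at hr
      exact hr
    let g : Spec (G.R.residueField r) ⟶ G.R := G.R.fromSpecResidueField r
    have h1 : Set.range (g ≫ G.t) ⊆ Set.range V.ι := by
      rintro _ ⟨x, rfl⟩
      rw [Scheme.Hom.comp_apply, Scheme.fromSpecResidueField_apply, Scheme.Opens.range_ι]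
      exact ht
    have h2 : Set.range (g ≫ G.s) ⊆ Set.range V.ι := by
      rintro _ ⟨x, rfl⟩
      rw [Scheme.Hom.comp_apply, Scheme.fromSpecResidueField_apply, Scheme.Opens.range_ι]
      exact hs
    refine ⟨mk G V.ι (IsOpenImmersion.lift V.ι (g ≫ G.t) h1) g
      (IsOpenImmersion.lift V.ι (g ≫ G.s) h2) (by simp) (by simp)
      (IsLocalRing.closedPoint _), ?_⟩
    rw [← Scheme.Hom.comp_apply, mk_toR, Scheme.fromSpecResidueField_apply]

theorem isPullback_src (hV : G.s ⁻¹ᵁ V = G.t ⁻¹ᵁ V) :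
    IsPullback (src G V.ι) (toR G V.ι) V.ι G.s :=
  IsOpenImmersion.isPullback _ _ _ _ (toR_s G V.ι)
    (by rw [opensRange_toR G V hV, Scheme.Opens.opensRange_ι])

theorem isPullback_tgt (hV : G.s ⁻¹ᵁ V = G.t ⁻¹ᵁ V) :
    IsPullback (tgt G V.ι) (toR G V.ι) V.ι G.t :=
  IsOpenImmersion.isPullback _ _ _ _ (toR_t G V.ι)
    (by rw [opensRange_toR G V hV, Scheme.Opens.opensRange_ι, hV])

/-- The affine geometric quotient over an invariant affine open `V` of `U`
(form with the restricted groupoid `Restrict.restrict G V.ι`). -/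
theorem exists_isGeomQuot_of_isAffineOpen [IsFinite G.s] [Flat G.s]
    [LocallyOfFinitePresentation G.s] [IsFinite G.t] [Flat G.t] [LocallyOfFinitePresentation G.t]
    (hV : G.s ⁻¹ᵁ V = G.t ⁻¹ᵁ V) (hVa : IsAffineOpen V) :
    IsGeomQuot (src G V.ι) (tgt G V.ι) (restrict G V.ι).toQuot ∧
      IsIntegralHom (restrict G V.ι).toQuot := by
  have h1 := isPullback_src G V hV
  have h2 := isPullback_tgt G V hV
  have i1 : IsFinite (restrict G V.ι).s := MorphismProperty.of_isPullback h1.flip ‹_›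
  have i2 : Flat (restrict G V.ι).s := MorphismProperty.of_isPullback h1.flip ‹_›
  have i3 : LocallyOfFinitePresentation (restrict G V.ι).s :=
    MorphismProperty.of_isPullback h1.flip ‹_›
  have i4 : IsFinite (restrict G V.ι).t := MorphismProperty.of_isPullback h2.flip ‹_›
  have i5 : Flat (restrict G V.ι).t := MorphismProperty.of_isPullback h2.flip ‹_›
  have i6 : LocallyOfFinitePresentation (restrict G V.ι).t :=
    MorphismProperty.of_isPullback h2.flip ‹_›
  have i7 : IsAffine (restrict G V.ι).U := hVa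
  have i8 : IsAffine (restrict G V.ι).R := isAffine_of_isAffineHom (restrict G V.ι).s
  exact ⟨isGeomQuot_toQuot (restrict G V.ι), isIntegralHom_toQuot (restrict G V.ι)⟩

/-- comparison `s⁻¹ V → V ×_U R ×_U V` for an invariant open `V`. -/
noncomputable def fromPreimage (hV : G.s ⁻¹ᵁ V = G.t ⁻¹ᵁ V) :
    (G.s ⁻¹ᵁ V : G.R.Opens).toScheme ⟶ arrows G V.ι :=
  mk G V.ι (PtRestrict.tRes G.s G.t V hV) (G.s ⁻¹ᵁ V).ι (G.s ∣_ V)
    (PtRestrict.tRes_ι_hom G.s G.t V hV).symm (morphismRestrict_ι G.s V).symm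

theorem fromPreimage_toR (hV : G.s ⁻¹ᵁ V = G.t ⁻¹ᵁ V) :
    fromPreimage G V hV ≫ toR G V.ι = (G.s ⁻¹ᵁ V).ι := mk_toR ..

theorem fromPreimage_src (hV : G.s ⁻¹ᵁ V = G.t ⁻¹ᵁ V) :
    fromPreimage G V hV ≫ src G V.ι = G.s ∣_ V := mk_src ..

theorem fromPreimage_tgt (hV : G.s ⁻¹ᵁ V = G.t ⁻¹ᵁ V) :
    fromPreimage G V hV ≫ tgt G V.ι = PtRestrict.tRes G.s G.t V hV := mk_tgt ..

instance isOpenImmersion_fromPreimage (hV : G.s ⁻¹ᵁ V = G.t ⁻¹ᵁ V) :
    IsOpenImmersion (fromPreimage G V hV) := by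
  have : IsOpenImmersion (fromPreimage G V hV ≫ toR G V.ι) := by
    rw [fromPreimage_toR]; infer_instance
  exact IsOpenImmersion.of_comp _ (toR G V.ι)

theorem opensRange_fromPreimage (hV : G.s ⁻¹ᵁ V = G.t ⁻¹ᵁ V) :
    (fromPreimage G V hV).opensRange = ⊤ := by
  rw [eq_top_iff]
  intro x _
  have h1 : toR G V.ι x ∈ (toR G V.ι).opensRange := ⟨x, rfl⟩
  rw [opensRange_toR G V hV] at h1
  refine ⟨⟨toR G V.ι x, h1⟩, ?_⟩
  apply (toR G V.ι).isOpenEmbedding.injective
  rw [← Scheme.Hom.comp_apply, fromPreimage_toR]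
  rfl

/-- geometric quotients of the restricted groupoid over an invariant open, in terms of `G.s ∣_ V`. -/
theorem isGeomQuot_tRes (hV : G.s ⁻¹ᵁ V = G.t ⁻¹ᵁ V) {Y : Scheme.{u}} {p : V.toScheme ⟶ Y}
    (h : IsGeomQuot (src G V.ι) (tgt G V.ι) p) :
    IsGeomQuot (G.s ∣_ V) (PtRestrict.tRes G.s G.t V hV) p :=
  h.restrict (fromPreimage G V hV) (𝟙 _) (𝟙 _) _ _ p (by rw [fromPreimage_src, Category.comp_id])
    (by rw [fromPreimage_tgt, Category.comp_id]) (by rw [Category.id_comp, Category.comp_id])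
    (by rw [Scheme.Hom.opensRange_of_isIso, Scheme.Hom.opensRange_of_isIso, Scheme.Hom.preimage_top])
    (by rw [opensRange_fromPreimage, Scheme.Hom.opensRange_of_isIso, Scheme.Hom.preimage_top])

end restrict

end Groth.Agent.GrpQ.H766.AffineCase
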