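import Groth.Agent.GrpQ.H766.GeomQuotDef
import Mathlib.Topology.ContinuousMap.Basic

/-!
# Geometric quotients of a pair of morphisms `s, t : R ⟶ U`

Main results: a geometric quotient is a coequalizer in schemes.
-/

set_option autoImplicit false
universe u
open CategoryTheory CategoryTheory.Limits AlgebraicGeometry TopologicalSpace

namespace Groth.Agent.GrpQ.H766.GeomQuotDef

variable {R U Y Z : Scheme.{u}}

theorem invSec_iff (s t : R ⟶ U) (O : U.Opens) (f : Γ(U, O)) (N : R.Opens)
    (hN : N = s ⁻¹ᵁ O ⊓ t ⁻¹ᵁ O) : InvSec s t O f ↔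
    s.appLE O N (hN.le.trans inf_le_left) f = t.appLE O N (hN.le.trans inf_le_right) f := by
  subst hN; exact Iff.rfl

/-- pulling back sections along an invariant morphism gives invariant sections -/
theorem invSec_appLE {s t : R ⟶ U} (g : U ⟶ Z) (hg : t ≫ g = s ≫ g) (O : Z.Opens)
    (V : U.Opens) (hV : V ≤ g ⁻¹ᵁ O) (a : Γ(Z, O)) : InvSec s t V (g.appLE O V hV a) := by
  have e1 : (s ≫ g).appLE O (s ⁻¹ᵁ V ⊓ t ⁻¹ᵁ V) (inf_le_left.trans (s.preimage_mono hV)) =
      (t ≫ g).appLE O (s ⁻¹ᵁ V ⊓ t ⁻¹ᵁ V) (inf_le_right.trans (t.preimage_mono hV)) := by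
    congr 1
    exact hg.symm
  have e2 := Scheme.Hom.appLE_comp_appLE s g O V (s ⁻¹ᵁ V ⊓ t ⁻¹ᵁ V) hV inf_le_left
  have e3 := Scheme.Hom.appLE_comp_appLE t g O V (s ⁻¹ᵁ V ⊓ t ⁻¹ᵁ V) hV inf_le_right
  rw [InvSec, ← CommRingCat.comp_apply, ← CommRingCat.comp_apply, e2, e3, e1]

namespace IsGeomQuot

variable {s t : R ⟶ U} {p : U ⟶ Y}

theorem surjective (h : IsGeomQuot s t p) : Function.Surjective p := h.isQuotientMap.surjective

theorem apply_eq (h : IsGeomQuot s t p) (r : R) : p (t r) = p (s r) := by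
  rw [← Scheme.Hom.comp_apply, h.w, Scheme.Hom.comp_apply]

theorem apply_eq_iff (h : IsGeomQuot s t p) (x y : U) :
    p x = p y ↔ ∃ r : R, t r = x ∧ s r = y :=
  ⟨h.rel x y, by rintro ⟨r, rfl, rfl⟩; exact h.apply_eq r⟩

theorem factorsThrough (h : IsGeomQuot s t p) (g : U ⟶ Z) (hg : t ≫ g = s ≫ g) :
    Function.FactorsThrough g.base.hom p.base.hom := by
  intro x y hxy
  obtain ⟨r, rfl, rfl⟩ := h.rel x y hxy
  change g (t r) = g (s r)
  rw [← Scheme.Hom.comp_apply, hg, Scheme.Hom.comp_apply]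

/-- the descended continuous map -/
noncomputable def descBase (h : IsGeomQuot s t p) (g : U ⟶ Z) (hg : t ≫ g = s ≫ g) :
    (Y.toPresheafedSpace : TopCat) ⟶ (Z.toPresheafedSpace : TopCat) :=
  TopCat.ofHom (Topology.IsQuotientMap.lift (f := p.base.hom) h.isQuotientMap g.base.hom
    (h.factorsThrough g hg))

theorem descBase_apply (h : IsGeomQuot s t p) (g : U ⟶ Z) (hg : t ≫ g = s ≫ g) (x : U) :
    h.descBase g hg (p x) = g x :=
  congrArg (fun k : C(U, Z) => k x)
    (Topology.IsQuotientMap.lift_comp (f := p.base.hom) h.isQuotientMap g.base.hom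
      (h.factorsThrough g hg))

theorem preimage_descBase (h : IsGeomQuot s t p) (g : U ⟶ Z) (hg : t ≫ g = s ≫ g)
    (O : Z.Opens) : p ⁻¹ᵁ ((Opens.map (h.descBase g hg)).obj O) = g ⁻¹ᵁ O := by
  ext x
  change h.descBase g hg (p x) ∈ O ↔ g x ∈ O
  rw [descBase_apply]

theorem exists_app (h : IsGeomQuot s t p) (g : U ⟶ Z) (hg : t ≫ g = s ≫ g) (O : Z.Opens)
    (a : Γ(Z, O)) : ∃ b : Γ(Y, (Opens.map (h.descBase g hg)).obj O),
      p.app _ b = g.appLE O _ (h.preimage_descBase g hg O).le a :=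
  h.sec _ _ (invSec_appLE g hg O _ _ a)

/-- the ring maps of the descended morphism -/
noncomputable def descApp (h : IsGeomQuot s t p) (g : U ⟶ Z) (hg : t ≫ g = s ≫ g)
    (O : Z.Opens) : Γ(Z, O) ⟶ Γ(Y, (Opens.map (h.descBase g hg)).obj O) :=
  CommRingCat.ofHom
    { toFun := fun a => (h.exists_app g hg O a).choose
      map_one' := h.inj _ (by rw [(h.exists_app g hg O 1).choose_spec]; simp)
      map_mul' := fun a b => h.inj _ (by
        rw [(h.exists_app g hg O (a * b)).choose_spec, map_mul, map_mul,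
          (h.exists_app g hg O a).choose_spec, (h.exists_app g hg O b).choose_spec])
      map_zero' := h.inj _ (by rw [(h.exists_app g hg O 0).choose_spec]; simp)
      map_add' := fun a b => h.inj _ (by
        rw [(h.exists_app g hg O (a + b)).choose_spec, map_add, map_add,
          (h.exists_app g hg O a).choose_spec, (h.exists_app g hg O b).choose_spec]) }

theorem app_descApp (h : IsGeomQuot s t p) (g : U ⟶ Z) (hg : t ≫ g = s ≫ g) (O : Z.Opens)
    (a : Γ(Z, O)) : p.app _ (h.descApp g hg O a) =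
      g.appLE O _ (h.preimage_descBase g hg O).le a :=
  (h.exists_app g hg O a).choose_spec

/-- the descended morphism of presheafed spaces -/
noncomputable def descPsh (h : IsGeomQuot s t p) (g : U ⟶ Z) (hg : t ≫ g = s ≫ g) :
    Y.toPresheafedSpace ⟶ Z.toPresheafedSpace where
  base := h.descBase g hg
  c :=
    { app := fun O => h.descApp g hg O.unop
      naturality := fun O O' i => by
        ext a
        apply h.inj
        have h1 := h.app_descApp g hg O'.unop (Z.presheaf.map i a)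
        have h2 := h.app_descApp g hg O.unop a
        refine h1.trans ?_
        have h3 : p.app _ (Y.presheaf.map ((Opens.map (h.descBase g hg)).map i.unop).op
            (h.descApp g hg O.unop a)) = U.presheaf.map
              ((Opens.map p.base).map ((Opens.map (h.descBase g hg)).map i.unop)).op
              (p.app _ (h.descApp g hg O.unop a)) := by
          rw [← CommRingCat.comp_apply, ← CommRingCat.comp_apply, Scheme.Hom.naturality]
          rfl
        refine Eq.trans ?_ h3.symm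
        rw [h2, ← CommRingCat.comp_apply, ← CommRingCat.comp_apply, Scheme.Hom.map_appLE,
          Scheme.Hom.appLE_map] }

/-- the descended morphism -/
noncomputable def desc (h : IsGeomQuot s t p) (g : U ⟶ Z) (hg : t ≫ g = s ≫ g) : Y ⟶ Z where
  toHom := h.descPsh g hg
  prop y := by
    obtain ⟨x, rfl⟩ := h.surjective y
    refine ⟨fun a ha => ?_⟩
    obtain ⟨O, hO, σ, rfl⟩ := TopCat.Presheaf.exists_germ_eq Z.presheaf a
    have h1 : IsUnit (Y.presheaf.germ _ (p x) hO (h.descApp g hg O σ)) := by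
      have h2 := PresheafedSpace.stalkMap_germ_apply (h.descPsh g hg) O (p x) hO σ
      rw [← show _ = Y.presheaf.germ _ (p x) hO (h.descApp g hg O σ) from h2]
      exact ha
    have h3 : x ∈ p ⁻¹ᵁ Y.basicOpen (h.descApp g hg O σ) :=
      (Scheme.mem_basicOpen Y (h.descApp g hg O σ) (p x) hO).mpr h1
    rw [Scheme.preimage_basicOpen, app_descApp, Scheme.basicOpen_appLE] at h3
    have h4 : g x ∈ Z.basicOpen σ := h3.2
    have h5 : h.descBase g hg (p x) ∈ Z.basicOpen σ := by
      rw [descBase_apply]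
      exact h4
    exact (Scheme.mem_basicOpen Z σ _ hO).mp h5

theorem comp_desc (h : IsGeomQuot s t p) (g : U ⟶ Z) (hg : t ≫ g = s ≫ g) :
    p ≫ h.desc g hg = g := by
  have hb : (p ≫ h.desc g hg).base = g.base := by
    ext x
    exact h.descBase_apply g hg x
  refine Scheme.Hom.ext hb fun O => ?_
  ext a
  have h1 := h.app_descApp g hg O a
  have h2 : (p ≫ h.desc g hg).app O a = p.app _ (h.descApp g hg O a) := rfl
  have h3 : (U.presheaf.map (eqToHom congr((Opens.map $(hb.symm)).obj O)).op)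
      (g.appLE O _ (h.preimage_descBase g hg O).le a) = g.app O a := by
    refine Eq.trans (congrArg (fun k : Γ(Z, O) ⟶ Γ(U, g ⁻¹ᵁ O) => k a)
      (Scheme.Hom.appLE_map g (h.preimage_descBase g hg O).le
        (eqToHom congr((Opens.map $(hb.symm)).obj O)).op)) ?_
    rw [Scheme.Hom.appLE_eq_app]
  rw [CommRingCat.comp_apply, h2, h1]
  exact h3

theorem hom_ext (h : IsGeomQuot s t p) {q q' : Y ⟶ Z} (hq : p ≫ q = p ≫ q') : q = q' := by
  have hb : q.base = q'.base := by
    ext y
    obtain ⟨x, rfl⟩ := h.surjective y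
    rw [← Scheme.Hom.comp_apply, hq, Scheme.Hom.comp_apply]
  refine Scheme.Hom.ext hb fun O => ?_
  ext a
  apply h.inj
  have h1 : (p ≫ q).app O ≫ U.presheaf.map (eqToHom congr((Opens.map $(hq.symm).base).obj O)).op =
      (p ≫ q').app O := by
    rw [← Scheme.Hom.appLE_eq_app, ← Scheme.Hom.appLE_eq_app, Scheme.Hom.appLE_map]
    congr 1
  have h2 := congrArg (fun k : Γ(Z, O) ⟶ Γ(U, (p ≫ q') ⁻¹ᵁ O) => k a) h1
  refine Eq.trans ?_ h2
  change (q.app O ≫ Y.presheaf.map _ ≫ p.app (q' ⁻¹ᵁ O)) a = (q.app O ≫ p.app _ ≫ _) a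
  rw [Scheme.Hom.naturality]
  rfl

/-- existence and uniqueness of the descent of invariant morphisms -/
theorem existsUnique_desc (h : IsGeomQuot s t p) (g : U ⟶ Z)
    (hg : t ≫ g = s ≫ g) : ∃! q : Y ⟶ Z, p ≫ q = g :=
  ⟨h.desc g hg, h.comp_desc g hg, fun _ hq => h.hom_ext (hq.trans (h.comp_desc g hg).symm)⟩

theorem epi (h : IsGeomQuot s t p) : Epi p := ⟨fun _ _ hq => h.hom_ext hq⟩

/-- a geometric quotient is a coequalizer in schemes -/
noncomputable def isColimit (h : IsGeomQuot s t p) : IsColimit (Cofork.ofπ p h.w) :=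
  Cofork.IsColimit.mk _ (fun c => h.desc c.π c.condition) (fun c => h.comp_desc c.π c.condition)
    (fun c _ hm => h.hom_ext (hm.trans (h.comp_desc c.π c.condition).symm))

theorem nonempty_isColimit (h : IsGeomQuot s t p) : Nonempty (IsColimit (Cofork.ofπ p h.w)) :=
  ⟨h.isColimit⟩

end IsGeomQuot

end Groth.Agent.GrpQ.H766.GeomQuotDef
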