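import Groth.Agent.GrpQ.H766.GeomQuotLocal
import Mathlib.AlgebraicGeometry.Morphisms.QuasiSeparated

/-!
# Geometric quotients with affine target

`isGeomQuot_of_isAffine` : for `Y` affine and `R` quasi-compact, `U` quasi-compact quasi-separated, the
sheaf condition needs to be checked on global sections only.
-/

set_option autoImplicit false
universe u
open CategoryTheory CategoryTheory.Limits AlgebraicGeometry TopologicalSpace

namespace Groth.Agent.GrpQ.H766.AffineBase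

open Groth.Agent.GrpQ.H766.GeomQuotDef Groth.Agent.GrpQ.H766.GeomQuotLocal

variable {R U Y Z : Scheme.{u}}

lemma exists_pow_mul_eq_zero (X : Scheme.{u}) [CompactSpace X] (f x : Γ(X, ⊤)) (D : X.Opens)
    (hD : D = X.basicOpen f) (H : X.presheaf.map (homOfLE (le_top : D ≤ ⊤)).op x = 0) :
    ∃ n : ℕ, f ^ n * x = 0 := by
  subst hD
  exact exists_pow_mul_eq_zero_of_res_basicOpen_eq_zero_of_isCompact X isCompact_univ x f H

lemma exists_eq_pow_mul (X : Scheme.{u}) [CompactSpace X] [QuasiSeparatedSpace X]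
    (f : Γ(X, ⊤)) (D : X.Opens) (hD : D = X.basicOpen f) (x : Γ(X, D)) :
    ∃ (n : ℕ) (y : Γ(X, ⊤)), X.presheaf.map (homOfLE (le_top : D ≤ ⊤)).op y =
      (X.presheaf.map (homOfLE (le_top : D ≤ ⊤)).op f) ^ n * x := by
  subst hD
  exact exists_eq_pow_mul_of_isCompact_of_isQuasiSeparated X ⊤ isCompact_univ
    isQuasiSeparated_univ f x

lemma isUnit_res (X : Scheme.{u}) (f : Γ(X, ⊤)) (D : X.Opens) (hD : D = X.basicOpen f) :
    IsUnit (X.presheaf.map (homOfLE (le_top : D ≤ ⊤)).op f) := by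
  subst hD
  exact RingedSpace.isUnit_res_basicOpen _ f

lemma app_res (p : U ⟶ Y) (W : Y.Opens) (a : Γ(Y, ⊤)) :
    p.app W (Y.presheaf.map (homOfLE (le_top : W ≤ ⊤)).op a) =
      U.presheaf.map (homOfLE (le_top : p ⁻¹ᵁ W ≤ ⊤)).op (p.appTop a) := by
  rw [← CommRingCat.comp_apply, Scheme.Hom.naturality, ← CommRingCat.comp_apply]
  rfl

/-- injectivity on basic opens -/
lemma inj_basicOpen (p : U ⟶ Y) [CompactSpace Y] [QuasiSeparatedSpace Y] [CompactSpace U]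
    (hinj : Function.Injective p.appTop) (y : Γ(Y, ⊤)) :
    Function.Injective (p.app (Y.basicOpen y)) := by
  rw [injective_iff_map_eq_zero]
  intro a ha
  obtain ⟨n, b, hb⟩ := exists_eq_pow_mul Y y _ rfl a
  have h1 : U.presheaf.map (homOfLE (le_top : p ⁻¹ᵁ (Y.basicOpen y) ≤ ⊤)).op (p.appTop b) = 0 := by
    rw [← app_res, hb, map_mul, ha, mul_zero]
  obtain ⟨m, hm⟩ := exists_pow_mul_eq_zero U (p.appTop y) (p.appTop b) _
    (Scheme.preimage_basicOpen_top p y) h1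
  have h2 : y ^ m * b = 0 := by
    apply hinj
    rw [map_mul, map_pow, hm, map_zero]
  have hu := isUnit_res Y y _ rfl
  have h3 : Y.presheaf.map (homOfLE (le_top : Y.basicOpen y ≤ ⊤)).op b = 0 := by
    have h4 := congrArg (Y.presheaf.map (homOfLE (le_top : Y.basicOpen y ≤ ⊤)).op) h2
    rw [map_mul, map_pow, map_zero] at h4
    exact (hu.pow m).mul_right_eq_zero.mp h4
  rw [h3] at hb
  exact (hu.pow n).mul_right_eq_zero.mp hb.symm

lemma sec_basicOpen (s t : R ⟶ U) (p : U ⟶ Y) (w : t ≫ p = s ≫ p) [CompactSpace R]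
    [CompactSpace U] [QuasiSeparatedSpace U]
    (hsec : ∀ a : Γ(U, ⊤), s.appTop a = t.appTop a → ∃ b : Γ(Y, ⊤), p.appTop b = a)
    (y : Γ(Y, ⊤)) (f : Γ(U, p ⁻¹ᵁ (Y.basicOpen y))) (hf : InvSec s t _ f) :
    ∃ g : Γ(Y, Y.basicOpen y), p.app _ g = f := by
  obtain ⟨n, a, ha⟩ := exists_eq_pow_mul U (p.appTop y) _ (Scheme.preimage_basicOpen_top p y) f
  have hDR : s ⁻¹ᵁ (p ⁻¹ᵁ (Y.basicOpen y)) ⊓ t ⁻¹ᵁ (p ⁻¹ᵁ (Y.basicOpen y)) =
      R.basicOpen (s.appTop (p.appTop y)) := by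
    rw [← Scheme.Hom.comp_preimage, ← Scheme.Hom.comp_preimage, w, inf_idem,
      Scheme.preimage_basicOpen_top]
    rfl
  have hst : t.appTop (p.appTop y) = s.appTop (p.appTop y) := by
    rw [← CommRingCat.comp_apply, ← CommRingCat.comp_apply, ← Scheme.Hom.comp_appTop,
      ← Scheme.Hom.comp_appTop, w]
  have key : ∀ c : Γ(U, ⊤), R.presheaf.map (homOfLE (le_top :
      s ⁻¹ᵁ (p ⁻¹ᵁ (Y.basicOpen y)) ⊓ t ⁻¹ᵁ (p ⁻¹ᵁ (Y.basicOpen y)) ≤ ⊤)).op (s.appTop c) =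
      s.appLE (p ⁻¹ᵁ (Y.basicOpen y)) _ inf_le_left
        (U.presheaf.map (homOfLE (le_top : p ⁻¹ᵁ (Y.basicOpen y) ≤ ⊤)).op c) := fun c => by
    rw [← CommRingCat.comp_apply, ← CommRingCat.comp_apply, Scheme.Hom.map_appLE]
    rfl
  have key' : ∀ c : Γ(U, ⊤), R.presheaf.map (homOfLE (le_top :
      s ⁻¹ᵁ (p ⁻¹ᵁ (Y.basicOpen y)) ⊓ t ⁻¹ᵁ (p ⁻¹ᵁ (Y.basicOpen y)) ≤ ⊤)).op (t.appTop c) =
      t.appLE (p ⁻¹ᵁ (Y.basicOpen y)) _ inf_le_right
        (U.presheaf.map (homOfLE (le_top : p ⁻¹ᵁ (Y.basicOpen y) ≤ ⊤)).op c) := fun c => by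
    rw [← CommRingCat.comp_apply, ← CommRingCat.comp_apply, Scheme.Hom.map_appLE]
    rfl
  have h1 : R.presheaf.map (homOfLE (le_top :
      s ⁻¹ᵁ (p ⁻¹ᵁ (Y.basicOpen y)) ⊓ t ⁻¹ᵁ (p ⁻¹ᵁ (Y.basicOpen y)) ≤ ⊤)).op
      (s.appTop a - t.appTop a) = 0 := by
    rw [map_sub, key, key', ha, map_mul, map_mul, map_pow, map_pow, ← key, ← key', hst, sub_eq_zero]
    rw [InvSec] at hf
    rw [hf]
  obtain ⟨m, hm⟩ := exists_pow_mul_eq_zero R _ _ _ hDR h1
  obtain ⟨b, hb⟩ := hsec ((p.appTop y) ^ m * a) (by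
    rw [map_mul, map_mul, map_pow, map_pow, hst, ← sub_eq_zero, ← mul_sub]
    exact hm)
  have hu := isUnit_res Y y _ rfl
  have hu' := isUnit_res U (p.appTop y) _ (Scheme.preimage_basicOpen_top p y)
  obtain ⟨v, hv⟩ := (hu.pow (m + n))
  refine ⟨(v⁻¹ : Units _) * Y.presheaf.map (homOfLE (le_top : Y.basicOpen y ≤ ⊤)).op b, ?_⟩
  have h2 : p.app _ (Y.presheaf.map (homOfLE (le_top : Y.basicOpen y ≤ ⊤)).op b) =
      p.app _ (v : Γ(Y, Y.basicOpen y)) * f := by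
    rw [hv, app_res, hb, map_mul, map_pow, ha, map_pow, app_res, pow_add, mul_assoc]
  rw [map_mul, h2, ← mul_assoc, ← map_mul, Units.inv_mul, map_one, one_mul]

/-- For `Y` affine, `R` quasi-compact, `U` quasi-compact quasi-separated the sheaf condition of a
geometric quotient needs to be checked on global sections only. -/
theorem isGeomQuot_of_isAffine (s t : R ⟶ U) (p : U ⟶ Y) (w : t ≫ p = s ≫ p) [CompactSpace R]
    [CompactSpace U] [QuasiSeparatedSpace U] [IsAffine Y] (hq : Topology.IsQuotientMap p)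
    (hrel : ∀ x y : U, p x = p y → ∃ r : R, t r = x ∧ s r = y)
    (hinj : Function.Injective p.appTop)
    (hsec : ∀ a : Γ(U, ⊤), s.appTop a = t.appTop a → ∃ b : Γ(Y, ⊤), p.appTop b = a) :
    IsGeomQuot s t p := by
  have hbasis : ∀ (W : Y.Opens) (y : Y), y ∈ W → ∃ f : Γ(Y, ⊤), y ∈ Y.basicOpen f ∧
      Y.basicOpen f ≤ W := fun W y hy => by
    obtain ⟨f, h1, h2⟩ := (isAffineOpen_top Y).exists_basicOpen_le (V := W) ⟨y, hy⟩ trivial
    exact ⟨f, h2, h1⟩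
  have hI := inj_of_local p fun W y hy => by
    obtain ⟨f, h1, h2⟩ := hbasis W y hy
    exact ⟨_, h1, h2, inj_basicOpen p hinj f⟩
  exact ⟨w, hq, hrel, hI, sec_of_local s t p hI fun W y hy => by
    obtain ⟨f, h1, h2⟩ := hbasis W y hy
    exact ⟨_, h1, h2, sec_basicOpen s t p w hsec f⟩⟩

end Groth.Agent.GrpQ.H766.AffineBase
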