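import Groth.Agent.GrpQ.H766.LocalStr
import Groth.Prelude.Def_Mor2

/-!
# Geometric quotients of finite locally free groupoids: surjectivity of `R ⟶ U ×_Y U`,
the case of an equivalence relation
-/

set_option autoImplicit false
universe u
open CategoryTheory CategoryTheory.Limits AlgebraicGeometry TopologicalSpace

namespace Groth.Agent.GrpQ.H766.Consequences

open Groth.Agent.GrpQ.H766.GeomQuotDef Groth.Agent.GrpQ.H766.GeomQuotLocal
open Groth.Agent.Grpsch Groth.Agent.Grpsch.Restrict Groth.Agent.GrpQ.H766.AffineCase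
open Groth.Agent.GrpQ.H766.LocalStr

variable {S : Scheme.{u}} (G : Grpd.GroupoidScheme S) {Y : Scheme.{u}} {p : G.U ⟶ Y}

/-- `t` is finite locally free if `s` is. -/
theorem isFinLocFree_t (ha : Mor2.IsFinLocFree G.s) : Mor2.IsFinLocFree G.t := by
  obtain ⟨h1, h2, h3⟩ := ha
  rw [← G.i_s]
  have := Points.isIso_i G
  exact ⟨inferInstance, inferInstance, inferInstance⟩

theorem instances_restrict [IsFinite G.s] [Flat G.s] [LocallyOfFinitePresentation G.s]
    [IsFinite G.t] [Flat G.t] [LocallyOfFinitePresentation G.t] (V : G.U.Opens)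
    (hV : G.s ⁻¹ᵁ V = G.t ⁻¹ᵁ V) (hVa : IsAffineOpen V) :
    IsFinite (restrict G V.ι).s ∧ Flat (restrict G V.ι).s ∧
    LocallyOfFinitePresentation (restrict G V.ι).s ∧ IsFinite (restrict G V.ι).t ∧
    Flat (restrict G V.ι).t ∧ LocallyOfFinitePresentation (restrict G V.ι).t ∧
    IsAffine (restrict G V.ι).U ∧ IsAffine (restrict G V.ι).R := by
  have h1 := isPullback_src G V hV
  have h2 := isPullback_tgt G V hV
  have i1 : IsFinite (restrict G V.ι).s := MorphismProperty.of_isPullback h1.flip ‹_›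
  have i7 : IsAffine (restrict G V.ι).U := hVa
  exact ⟨i1, MorphismProperty.of_isPullback h1.flip ‹_›, MorphismProperty.of_isPullback h1.flip ‹_›,
    MorphismProperty.of_isPullback h2.flip ‹_›, MorphismProperty.of_isPullback h2.flip ‹_›,
    MorphismProperty.of_isPullback h2.flip ‹_›, i7, isAffine_of_isAffineHom (restrict G V.ι).s⟩

variable {G} in
theorem arrows_ext_of_mono [Mono G.j] {U' : Scheme.{u}} (g : U' ⟶ G.U) {T : Scheme.{u}}
    (α β : T ⟶ arrows G g) (h1 : α ≫ tgt G g = β ≫ tgt G g) (h3 : α ≫ src G g = β ≫ src G g) :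
    α = β := by
  refine arrows_hom_ext h1 ?_ h3
  rw [← cancel_mono G.j]
  apply pullback.hom_ext
  · simp only [Category.assoc, Grpd.GroupoidScheme.j, pullback.lift_fst, toR_t]
    rw [reassoc_of% h1]
  · simp only [Category.assoc, Grpd.GroupoidScheme.j, pullback.lift_snd, toR_s]
    rw [reassoc_of% h3]

theorem mono_j_restrict [Mono G.j] {U' : Scheme.{u}} (g : U' ⟶ G.U) : Mono (restrict G g).j := by
  refine ⟨fun {T} α β hαβ => ?_⟩
  have h1 : α ≫ tgt G g = β ≫ tgt G g := by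
    have := congrArg (fun k => k ≫ pullback.fst (restrict G g).pU (restrict G g).pU) hαβ
    simp only [Category.assoc, Grpd.GroupoidScheme.j, pullback.lift_fst] at this
    exact this
  have h3 : α ≫ src G g = β ≫ src G g := by
    have := congrArg (fun k => k ≫ pullback.snd (restrict G g).pU (restrict G g).pU) hαβ
    simp only [Category.assoc, Grpd.GroupoidScheme.j, pullback.lift_snd] at this
    exact this
  exact arrows_ext_of_mono g α β h1 h3

theorem toQuot_eq_of_comp_eq (H : Grpd.GroupoidScheme S) {Y' : Scheme.{u}}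
    (e : Spec (CommRingCat.of H.invariants) ≅ Y') (q : H.U ⟶ Y') (he : H.toQuot ≫ e.hom = q)
    {T : Scheme.{u}} (x₀ x₁ : T ⟶ H.U) (h : x₀ ≫ q = x₁ ≫ q) :
    x₀ ≫ H.toQuot = x₁ ≫ H.toQuot := by
  subst he
  rw [← cancel_mono e.hom, Category.assoc, Category.assoc, h]

section

variable {G}
variable [IsFinite G.s] [Flat G.s] [LocallyOfFinitePresentation G.s] [IsFinite G.t] [Flat G.t]
  [LocallyOfFinitePresentation G.t]

theorem surjective_lift (h : IsGeomQuot G.s G.t p)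
    (hb : ∀ x : G.U, ∃ V : G.U.Opens, IsAffineOpen V ∧
      G.t.base '' (G.s.base ⁻¹' {x}) ⊆ (V : Set G.U)) :
    Function.Surjective (pullback.lift G.t G.s h.w).base := by
  intro z
  obtain ⟨W, hyW, hW⟩ := exists_mem_isAffineOpen h hb (p (pullback.fst p p z))
  obtain ⟨e, he⟩ := exists_iso_toQuot h W hW
  obtain ⟨i1, i2, i3, i4, i5, i6, i7, i8⟩ :=
    instances_restrict G (p ⁻¹ᵁ W) (preimage_inv h.w W) hW
  obtain ⟨k, _, _, g, hg⟩ := AffGrpd.exists_geomPoint _ z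
  have hcond : (g ≫ pullback.fst p p) ≫ p = (g ≫ pullback.snd p p) ≫ p := by
    rw [Category.assoc, pullback.condition, Category.assoc]
  have r0 : Set.range (g ≫ pullback.fst p p) ⊆ Set.range (p ⁻¹ᵁ W).ι := by
    rintro _ ⟨x, rfl⟩
    rw [Scheme.Hom.comp_apply, hg, Scheme.Opens.range_ι]
    exact hyW
  have r1 : Set.range (g ≫ pullback.snd p p) ⊆ Set.range (p ⁻¹ᵁ W).ι := by
    rintro _ ⟨x, rfl⟩
    rw [Scheme.Opens.range_ι]
    change p ((g ≫ pullback.snd p p) x) ∈ W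
    rw [← Scheme.Hom.comp_apply, ← hcond, Scheme.Hom.comp_apply, Scheme.Hom.comp_apply, hg]
    exact hyW
  let x₀ := IsOpenImmersion.lift (p ⁻¹ᵁ W).ι (g ≫ pullback.fst p p) r0
  let x₁ := IsOpenImmersion.lift (p ⁻¹ᵁ W).ι (g ≫ pullback.snd p p) r1
  have hx₀ : x₀ ≫ (p ⁻¹ᵁ W).ι = g ≫ pullback.fst p p := IsOpenImmersion.lift_fac _ _ _
  have hx₁ : x₁ ≫ (p ⁻¹ᵁ W).ι = g ≫ pullback.snd p p := IsOpenImmersion.lift_fac _ _ _
  have h1 : x₀ ≫ (p ∣_ W) = x₁ ≫ (p ∣_ W) := by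
    rw [← cancel_mono W.ι, Category.assoc, Category.assoc, morphismRestrict_ι,
      reassoc_of% hx₀, reassoc_of% hx₁, pullback.condition]
  have h2 := toQuot_eq_of_comp_eq (restrict G (p ⁻¹ᵁ W).ι) e _ he x₀ x₁ h1
  obtain ⟨r, hr0', hr1'⟩ : ∃ r : Spec (CommRingCat.of k) ⟶ arrows G (p ⁻¹ᵁ W).ι,
      r ≫ tgt G (p ⁻¹ᵁ W).ι = x₀ ∧ r ≫ src G (p ⁻¹ᵁ W).ι = x₁ :=
    AffGrpd.exists_geomPoint_R (restrict G (p ⁻¹ᵁ W).ι) k x₀ x₁ h2
  have h5 : (r ≫ toR G (p ⁻¹ᵁ W).ι) ≫ pullback.lift G.t G.s h.w = g := by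
    apply pullback.hom_ext
    · rw [Category.assoc, Category.assoc, pullback.lift_fst, toR_t, reassoc_of% hr0', hx₀]
    · rw [Category.assoc, Category.assoc, pullback.lift_snd, toR_s, reassoc_of% hr1', hx₁]
  refine ⟨(r ≫ toR G (p ⁻¹ᵁ W).ι) (IsLocalRing.closedPoint k), ?_⟩
  change (pullback.lift G.t G.s h.w) _ = z
  rw [← Scheme.Hom.comp_apply, h5, hg]

/-- S1877 over an open of `Y`. -/
theorem restr_of_mono [Mono G.j] (h : IsGeomQuot G.s G.t p) (W : Y.Opens)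
    (hW : IsAffineOpen (p ⁻¹ᵁ W)) :
    Mor2.IsFinLocFree (p ∣_ W) ∧
      IsPullback (tgt G (p ⁻¹ᵁ W).ι) (src G (p ⁻¹ᵁ W).ι) (p ∣_ W) (p ∣_ W) := by
  obtain ⟨e, he⟩ := exists_iso_toQuot h W hW
  obtain ⟨i1, i2, i3, i4, i5, i6, i7, i8⟩ :=
    instances_restrict G (p ⁻¹ᵁ W) (preimage_inv h.w W) hW
  have := mono_j_restrict G (p ⁻¹ᵁ W).ι
  obtain ⟨⟨h1, h2, h3⟩, φ, hφ1, hφ2⟩ := Groth.Agent.S1877.result S (restrict G (p ⁻¹ᵁ W).ι)
  refine ⟨?_, ?_⟩
  · rw [← he]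
    exact ⟨MorphismProperty.comp_mem @IsFinite _ _ h1 inferInstance,
      MorphismProperty.comp_mem @Flat _ _ h2 inferInstance,
      MorphismProperty.comp_mem @LocallyOfFinitePresentation _ _ h3 inferInstance⟩
  · have h4 : IsPullback (restrict G (p ⁻¹ᵁ W).ι).t (restrict G (p ⁻¹ᵁ W).ι).s
        (restrict G (p ⁻¹ᵁ W).ι).toQuot (restrict G (p ⁻¹ᵁ W).ι).toQuot :=
      IsPullback.of_iso_pullback ⟨by rw [← hφ1, ← hφ2, Category.assoc, Category.assoc,
        pullback.condition]⟩ φ hφ1 hφ2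
    have h5 := h4.of_iso (Iso.refl _) (Iso.refl _) (Iso.refl _) e
      (fst' := tgt G (p ⁻¹ᵁ W).ι) (snd' := src G (p ⁻¹ᵁ W).ι) (f' := p ∣_ W) (g' := p ∣_ W)
      (by simp; rfl) (by simp; rfl) (by rw [he]; exact (Category.id_comp _).symm)
      (by rw [he]; exact (Category.id_comp _).symm)
    exact h5

theorem isFinLocFree_of_mono [Mono G.j] (h : IsGeomQuot G.s G.t p)
    (hb : ∀ x : G.U, ∃ V : G.U.Opens, IsAffineOpen V ∧
      G.t.base '' (G.s.base ⁻¹' {x}) ⊆ (V : Set G.U)) : Mor2.IsFinLocFree p := by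
  refine ⟨?_, ?_, ?_⟩
  · rw [IsZariskiLocalAtTarget.iff_of_iSup_eq_top (P := @IsFinite) _ (iSup_eq_top h hb)]
    exact fun W => (restr_of_mono h W.1 W.2).1.1
  · rw [IsZariskiLocalAtTarget.iff_of_iSup_eq_top (P := @Flat) _ (iSup_eq_top h hb)]
    exact fun W => (restr_of_mono h W.1 W.2).1.2.1
  · rw [IsZariskiLocalAtTarget.iff_of_iSup_eq_top (P := @LocallyOfFinitePresentation) _
      (iSup_eq_top h hb)]
    exact fun W => (restr_of_mono h W.1 W.2).1.2.2

theorem isPullback_restr_of_mono [Mono G.j] (h : IsGeomQuot G.s G.t p) (W : Y.Opens)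
    (hW : IsAffineOpen (p ⁻¹ᵁ W)) :
    IsPullback (pullback.snd G.t (p ⁻¹ᵁ W).ι) (pullback.fst G.t (p ⁻¹ᵁ W).ι ≫ G.s)
      ((p ⁻¹ᵁ W).ι ≫ p) p := by
  have h1 := (restr_of_mono h W hW).2
  have h2 := h1.flip.paste_horiz (isPullback_morphismRestrict p W).flip
  have h3 := isPullback_tgt G (p ⁻¹ᵁ W) (preimage_inv h.w W)
  refine h2.flip.of_iso h3.flip.isoPullback (Iso.refl _) (Iso.refl _) (Iso.refl _) ?_ ?_ ?_ ?_
  · rw [h3.flip.isoPullback_hom_snd, Iso.refl_hom, Category.comp_id]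
  · rw [Iso.refl_hom, Category.comp_id, h3.flip.isoPullback_hom_fst_assoc, toR_s]
  · rw [Iso.refl_hom, Iso.refl_hom, Category.comp_id, Category.id_comp, morphismRestrict_ι]
  · rw [Iso.refl_hom, Iso.refl_hom, Category.comp_id, Category.id_comp]

/-- for an equivalence relation, `R = U ×_Y U`. -/
theorem isPullback_of_mono [Mono G.j] (h : IsGeomQuot G.s G.t p)
    (hb : ∀ x : G.U, ∃ V : G.U.Opens, IsAffineOpen V ∧
      G.t.base '' (G.s.base ⁻¹' {x}) ⊆ (V : Set G.U)) : IsPullback G.t G.s p p := by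
  have hcov : TopologicalSpace.IsOpenCover
      (fun W : {W : Y.Opens // IsAffineOpen (p ⁻¹ᵁ W)} => p ⁻¹ᵁ W.1) := by
    rw [TopologicalSpace.IsOpenCover, ← Scheme.Hom.preimage_iSup, iSup_eq_top h hb,
      Scheme.Hom.preimage_top]
  exact Scheme.isPullback_of_openCover G.t G.s p p (G.U.openCoverOfIsOpenCover _ hcov)
    fun W => isPullback_restr_of_mono h W.1 W.2

end

end Groth.Agent.GrpQ.H766.Consequences
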