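import Groth.Agent.GrpQ.H766.RelGrpd
import Groth.Agent.Sga3.H775.S4095OfS4089

/-!
# Flat quotients on a dense open from a factorisation of `j`
-/

set_option autoImplicit false

universe u

open CategoryTheory CategoryTheory.Limits AlgebraicGeometry

namespace Groth.Agent.GrpQ.H766.FlatCase

open Groth.Agent.Grpsch.Points Groth.Agent.Sga3.H775.S4095OfS4089 RelGrpd

variable {S : Scheme.{u}}

/-- the conclusion: a flat quotient of a dense saturated open -/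
def FConcl (G : Grpd.GroupoidScheme S) : Prop :=
  ∃ (W : G.U.Opens) (hW : G.t ⁻¹ᵁ W = G.s ⁻¹ᵁ W), Dense (W : Set G.U) ∧
    ∃ (V : Scheme.{u}) (p : (W : Scheme.{u}) ⟶ V)
      (w : G.t.resLE W (G.s ⁻¹ᵁ W) hW.ge ≫ p = (G.s ∣_ W) ≫ p) (q : V ⟶ S),
      Nonempty (IsColimit (Cofork.ofπ p w)) ∧ p ≫ q = W.ι ≫ G.pU ∧
      Surjective p ∧ Flat p ∧ LocallyOfFinitePresentation p ∧ LocallyOfFiniteType q ∧ QuasiCompact q

theorem epi_resLE {X Y : Scheme.{u}} (f : X ⟶ Y) [Surjective f] [Flat f]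
    [LocallyOfFinitePresentation f] (V : Y.Opens) (U : X.Opens) (h : U = f ⁻¹ᵁ V) :
    Epi (f.resLE V U h.le) := by
  subst h
  rw [Scheme.Hom.resLE_eq_morphismRestrict]
  have h1 : Surjective (f ∣_ V) := IsZariskiLocalAtTarget.restrict ‹_› V
  have h2 : Flat (f ∣_ V) := IsZariskiLocalAtTarget.restrict ‹_› V
  have h3 : LocallyOfFinitePresentation (f ∣_ V) := IsZariskiLocalAtTarget.restrict ‹_› V
  infer_instance

/-- transfer of coequalizers along an epimorphism -/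
theorem nonempty_isColimit_of_epi {A A' B C : Scheme.{u}} {f g : A ⟶ B} {p : B ⟶ C}
    (w : f ≫ p = g ≫ p) (h : Nonempty (IsColimit (Cofork.ofπ p w))) (e : A' ⟶ A) [Epi e]
    {f' g' : A' ⟶ B} (hf : e ≫ f = f') (hg : e ≫ g = g') (w' : f' ≫ p = g' ≫ p) :
    Nonempty (IsColimit (Cofork.ofπ p w')) := by
  obtain ⟨h⟩ := h
  have key : ∀ s : Cofork f' g', f ≫ s.π = g ≫ s.π := fun s => by
    rw [← cancel_epi e, reassoc_of% hf, reassoc_of% hg, s.condition]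
  refine ⟨Cofork.IsColimit.mk _ (fun s => Cofork.IsColimit.desc h s.π (key s)) (fun s => ?_)
    (fun s m hm => ?_)⟩
  · exact Cofork.IsColimit.π_desc' h s.π (key s)
  · apply Cofork.IsColimit.hom_ext h
    rw [Cofork.IsColimit.π_desc' h s.π (key s)]
    exact hm

theorem flatCase [IsNoetherian S] (G : Grpd.GroupoidScheme S) [Flat G.s] [LocallyOfFiniteType G.s]
    [QuasiCompact G.s] [LocallyOfFiniteType G.pU] [QuasiCompact G.pU]
    (H89 : ∀ (G' : Grpd.GroupoidScheme S)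
      [Flat G'.s] [LocallyOfFiniteType G'.s] [QuasiCompact G'.s] [LocallyOfFiniteType G'.pU]
      [QuasiCompact G'.pU] [LocallyQuasiFinite G'.j] [LocallyOfFiniteType G'.j], Concl G')
    {Y : Scheme.{u}} (ψ : G.R ⟶ Y) (τ : Y ⟶ pullback G.pU G.pU) [Surjective ψ] [Flat ψ]
    [LocallyOfFinitePresentation ψ] [Mono τ] (h : ψ ≫ τ = G.j) : FConcl G := by
  obtain ⟨i, c, hp, e_s, e_t, i_s, i_t, c_s, c_t, hm⟩ := exists_image h
  let G' : Grpd.GroupoidScheme S := ofMono G.pU (tY G τ) (sY G τ) (fun _ _ => hom_extY G τ) hp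
    (G.e ≫ ψ) e_s e_t i i_s i_t c c_s c_t
  have hN : IsLocallyNoetherian G.U := LocallyOfFiniteType.isLocallyNoetherian G.pU
  have i0 : LocallyOfFinitePresentation G.s := inferInstance
  have hsc : ψ ≫ sY G τ = G.s := ψ_sY h
  have k1 : Flat (ψ ≫ sY G τ) := hsc ▸ inferInstance
  have k2 : LocallyOfFinitePresentation (ψ ≫ sY G τ) := hsc ▸ inferInstance
  have k3 : QuasiCompact (ψ ≫ sY G τ) := hsc ▸ inferInstance
  have i1 : Flat G'.s := Groth.Agent.S0115.flat_of_comp ψ (sY G τ)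
  have i2' : LocallyOfFinitePresentation (sY G τ) := Groth.Agent.S0114.result ψ (sY G τ)
  have i2 : LocallyOfFiniteType G'.s := inferInstanceAs (LocallyOfFiniteType (sY G τ))
  have i3 : QuasiCompact G'.s := by
    constructor
    intro U hU hU'
    have h := QuasiCompact.isCompact_preimage (f := ψ ≫ sY G τ) U hU hU'
    have h0 : IsCompact (ψ ⁻¹' (sY G τ ⁻¹' U)) := h
    have h' := h0.image ψ.continuous
    have h'' : ψ '' (ψ ⁻¹' (sY G τ ⁻¹' U)) = sY G τ ⁻¹' U :=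
      Set.image_preimage_eq _ ψ.surjective
    exact h'' ▸ h'
  have i4 : LocallyOfFiniteType G'.pU := inferInstanceAs (LocallyOfFiniteType G.pU)
  have i5 : QuasiCompact G'.pU := inferInstanceAs (QuasiCompact G.pU)
  have hm' : Mono G'.j := hm
  have i7 : LocallyOfFiniteType G'.j := by
    have : LocallyOfFiniteType (G'.j ≫ pullback.snd G'.pU G'.pU) := by
      rw [j_snd]; exact i2
    exact locallyOfFiniteType_of_comp _ (pullback.snd G'.pU G'.pU)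
  have i6 : LocallyQuasiFinite G'.j := inferInstance
  obtain ⟨W, hW, hd, V, p, w, q, h1, h2, h3, h4, h5, h6, h7, h8, h9, h10⟩ := H89 G'
  have hW' : (tY G τ) ⁻¹ᵁ W = (sY G τ) ⁻¹ᵁ W := hW
  have es : G.s ⁻¹ᵁ W = ψ ⁻¹ᵁ (sY G τ ⁻¹ᵁ W) := by rw [← ψ_sY h]; rfl
  have et : G.t ⁻¹ᵁ W = ψ ⁻¹ᵁ (sY G τ ⁻¹ᵁ W) := by rw [← ψ_tY h, ← hW']; rfl
  have hWG : G.t ⁻¹ᵁ W = G.s ⁻¹ᵁ W := et.trans es.symm
  have hepi := epi_resLE ψ (sY G τ ⁻¹ᵁ W) (G.s ⁻¹ᵁ W) es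
  have e1 : ψ.resLE (sY G τ ⁻¹ᵁ W) (G.s ⁻¹ᵁ W) es.le ≫ (tY G τ).resLE W (sY G τ ⁻¹ᵁ W) hW'.ge =
      G.t.resLE W (G.s ⁻¹ᵁ W) hWG.ge := by
    rw [Scheme.Hom.resLE_comp_resLE]
    simp only [ψ_tY h]
  have e2 : ψ.resLE (sY G τ ⁻¹ᵁ W) (G.s ⁻¹ᵁ W) es.le ≫ (sY G τ ∣_ W) = G.s ∣_ W := by
    rw [← Scheme.Hom.resLE_eq_morphismRestrict, Scheme.Hom.resLE_comp_resLE,
      ← Scheme.Hom.resLE_eq_morphismRestrict]
    simp only [ψ_sY h]
  have w0 : (tY G τ).resLE W (sY G τ ⁻¹ᵁ W) hW'.ge ≫ p = (sY G τ ∣_ W) ≫ p := w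
  have w' : G.t.resLE W (G.s ⁻¹ᵁ W) hWG.ge ≫ p = (G.s ∣_ W) ≫ p := by
    rw [← e1, ← e2, Category.assoc, w0, Category.assoc]
  refine ⟨W, hWG, hd, V, p, w', q, nonempty_isColimit_of_epi w0 h1 _ e1 e2 w', h2, h3,
    (h10 hm').2, h5, inferInstance, h7⟩

end Groth.Agent.GrpQ.H766.FlatCase
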