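import Mathlib.AlgebraicGeometry.Restrict
import Mathlib.AlgebraicGeometry.OpenImmersion
import Mathlib.CategoryTheory.Limits.Shapes.Equalizers
import Mathlib.Topology.Maps.Basic

/-!
# Geometric quotients of a pair of morphisms `s, t : R ⟶ U`: definition

`IsGeomQuot s t p` : `p : U ⟶ Y` coequalizes `(t, s)`, is a topological quotient map whose fibres are the
`R`-orbits, and `𝒪_Y` is the sheaf of invariant sections.
-/

set_option autoImplicit false
universe u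
open CategoryTheory CategoryTheory.Limits AlgebraicGeometry TopologicalSpace

namespace Groth.Agent.GrpQ.H766.GeomQuotDef

variable {R U Y : Scheme.{u}}

/-- `f ∈ Γ(U, O)` is invariant: `s♯ f = t♯ f` on `s⁻¹ O ∩ t⁻¹ O`. -/
def InvSec (s t : R ⟶ U) (O : U.Opens) (f : Γ(U, O)) : Prop :=
  s.appLE O (s ⁻¹ᵁ O ⊓ t ⁻¹ᵁ O) inf_le_left f = t.appLE O (s ⁻¹ᵁ O ⊓ t ⁻¹ᵁ O) inf_le_right f

/-- `p : U ⟶ Y` is a geometric quotient of `s, t : R ⟶ U`. -/
structure IsGeomQuot (s t : R ⟶ U) (p : U ⟶ Y) : Prop where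
  w : t ≫ p = s ≫ p
  isQuotientMap : Topology.IsQuotientMap p
  rel : ∀ x y : U, p x = p y → ∃ r : R, t r = x ∧ s r = y
  inj : ∀ W : Y.Opens, Function.Injective (p.app W)
  sec : ∀ (W : Y.Opens) (f : Γ(U, p ⁻¹ᵁ W)), InvSec s t (p ⁻¹ᵁ W) f → ∃ g : Γ(Y, W), p.app W g = f

end Groth.Agent.GrpQ.H766.GeomQuotDef
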