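import Groth.Agent.GrpQ.H766.GeomQuot
import Mathlib.Topology.Sheaves.SheafCondition.UniqueGluing

/-!
# Geometric quotients of a pair of morphisms `s, t : R ⟶ U`: locality

Restriction of geometric quotients to opens of `Y`; locality on `Y`; the sheaf conditions can be
checked locally.
-/

set_option autoImplicit false
universe u
open CategoryTheory CategoryTheory.Limits AlgebraicGeometry TopologicalSpace

namespace Groth.Agent.GrpQ.H766.GeomQuotLocal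

open Groth.Agent.GrpQ.H766.GeomQuotDef

variable {R U Y Z : Scheme.{u}}

/-- sections over an open inside the range of an open immersion -/
theorem appLE_bijective {X Y : Scheme.{u}} (j : X ⟶ Y) [IsOpenImmersion j] (V : Y.Opens)
    (V' : X.Opens) (hV : V ≤ j.opensRange) (h : V' = j ⁻¹ᵁ V) :
    Function.Bijective (j.appLE V V' h.le) := by
  subst h
  rw [Scheme.Hom.appLE_eq_app]
  have := j.isIso_app V hV
  exact ConcreteCategory.bijective_of_isIso (j.app V)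

theorem appLE_apply_appLE {X Y Z : Scheme.{u}} (f : X ⟶ Y) (g : Y ⟶ Z) (O : Z.Opens) (V : Y.Opens)
    (W : X.Opens) (e₁ : V ≤ g ⁻¹ᵁ O) (e₂ : W ≤ f ⁻¹ᵁ V) (a : Γ(Z, O)) :
    f.appLE V W e₂ (g.appLE O V e₁ a) = (f ≫ g).appLE O W (e₂.trans (f.preimage_mono e₁)) a := by
  rw [← CommRingCat.comp_apply, Scheme.Hom.appLE_comp_appLE]

theorem appLE_congr_hom {X Y : Scheme.{u}} {f g : X ⟶ Y} (h : f = g) (O : Y.Opens) (V : X.Opens)
    (e : V ≤ f ⁻¹ᵁ O) (a : Γ(Y, O)) : f.appLE O V e a = g.appLE O V (h ▸ e) a := by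
  subst h; rfl

/-- injectivity on sections is local on `Y` -/
theorem inj_of_local (p : U ⟶ Y) (H : ∀ (W : Y.Opens) (y : Y), y ∈ W → ∃ W' : Y.Opens, y ∈ W' ∧
    W' ≤ W ∧ Function.Injective (p.app W')) (W : Y.Opens) : Function.Injective (p.app W) := by
  intro a b hab
  choose! V hV using H W
  refine TopCat.Sheaf.eq_of_locally_eq' Y.sheaf (fun y : W => V y) W
    (fun y => homOfLE (hV y y.2).2.1) (fun y hy => ?_) a b fun y => ?_
  · exact Opens.mem_iSup.mpr ⟨⟨y, hy⟩, (hV y hy).1⟩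
  · apply (hV y y.2).2.2
    have h1 : p.app (V y) (Y.presheaf.map (homOfLE (hV y y.2).2.1).op a) =
        U.presheaf.map ((Opens.map p.base).map (homOfLE (hV y y.2).2.1)).op (p.app W a) := by
      rw [← CommRingCat.comp_apply, ← CommRingCat.comp_apply, Scheme.Hom.naturality]
      rfl
    have h2 : p.app (V y) (Y.presheaf.map (homOfLE (hV y y.2).2.1).op b) =
        U.presheaf.map ((Opens.map p.base).map (homOfLE (hV y y.2).2.1)).op (p.app W b) := by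
      rw [← CommRingCat.comp_apply, ← CommRingCat.comp_apply, Scheme.Hom.naturality]
      rfl
    exact h1.trans ((congrArg _ hab).trans h2.symm)

/-- restriction of invariant sections -/
theorem invSec_map {s t : R ⟶ U} {O O' : U.Opens} (i : O' ⟶ O) {f : Γ(U, O)}
    (hf : InvSec s t O f) : InvSec s t O' (U.presheaf.map i.op f) := by
  rw [InvSec]
  have h1 := congrArg (R.presheaf.map (homOfLE (inf_le_inf (s.preimage_mono i.le)
    (t.preimage_mono i.le)) : (s ⁻¹ᵁ O' ⊓ t ⁻¹ᵁ O' ⟶ s ⁻¹ᵁ O ⊓ t ⁻¹ᵁ O)).op) hf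
  simp only [← CommRingCat.comp_apply] at h1 ⊢
  rw [Scheme.Hom.appLE_map, Scheme.Hom.appLE_map] at h1
  rw [Scheme.Hom.map_appLE, Scheme.Hom.map_appLE]
  exact h1

/-- existence of sections is local on `Y` -/
theorem sec_of_local (s t : R ⟶ U) (p : U ⟶ Y) (hinj : ∀ W : Y.Opens, Function.Injective (p.app W))
    (H : ∀ (W : Y.Opens) (y : Y), y ∈ W → ∃ W' : Y.Opens, y ∈ W' ∧ W' ≤ W ∧
      ∀ f : Γ(U, p ⁻¹ᵁ W'), InvSec s t (p ⁻¹ᵁ W') f → ∃ g : Γ(Y, W'), p.app W' g = f)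
    (W : Y.Opens) (f : Γ(U, p ⁻¹ᵁ W)) (hf : InvSec s t (p ⁻¹ᵁ W) f) :
    ∃ g : Γ(Y, W), p.app W g = f := by
  choose! V hV using H W
  have hnat : ∀ {A B : Y.Opens} (i : A ⟶ B) (a : Γ(Y, B)), p.app A (Y.presheaf.map i.op a) =
        U.presheaf.map ((Opens.map p.base).map i).op (p.app B a) := by
    intro A B i a
    rw [← CommRingCat.comp_apply, ← CommRingCat.comp_apply, Scheme.Hom.naturality]
    rfl
  have hg : ∀ y : W, ∃ g : Γ(Y, V y), p.app (V y) g =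
      U.presheaf.map ((Opens.map p.base).map (homOfLE (hV y y.2).2.1)).op f := by
    intro y
    exact (hV y y.2).2.2 _ (invSec_map ((Opens.map p.base).map (homOfLE (hV y y.2).2.1)) hf)
  choose g hg using hg
  obtain ⟨G, hG, -⟩ := TopCat.Sheaf.existsUnique_gluing' Y.sheaf (fun y : W => V y) W
    (fun y => homOfLE (hV y y.2).2.1)
    (fun y hy => Opens.mem_iSup.mpr ⟨⟨y, hy⟩, (hV y hy).1⟩) g (fun y z => by
      apply hinj
      refine (hnat _ _).trans (Eq.trans ?_ (hnat _ _).symm)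
      rw [hg, hg, ← CommRingCat.comp_apply, ← CommRingCat.comp_apply, ← Functor.map_comp,
        ← Functor.map_comp]
      rfl)
  refine ⟨G, ?_⟩
  refine TopCat.Sheaf.eq_of_locally_eq' U.sheaf (fun y : W => p ⁻¹ᵁ V y) (p ⁻¹ᵁ W)
    (fun y => (Opens.map p.base).map (homOfLE (hV y y.2).2.1)) (fun x hx => ?_) _ _ fun y => ?_
  · exact Opens.mem_iSup.mpr ⟨⟨p x, hx⟩, (hV (p x) hx).1⟩
  · refine (hnat (homOfLE (hV y y.2).2.1) G).symm.trans (Eq.trans ?_ (hg y))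
    exact congrArg _ (hG y)

end Groth.Agent.GrpQ.H766.GeomQuotLocal

namespace Groth.Agent.GrpQ.H766.GeomQuotDef.IsGeomQuot

open Groth.Agent.GrpQ.H766.GeomQuotLocal

variable {R U Y : Scheme.{u}} {s t : R ⟶ U} {p : U ⟶ Y}

/-- Restriction of a geometric quotient to an open of `Y` (general form with open immersions). -/
theorem restrict (h : IsGeomQuot s t p) {R' U' Y' : Scheme.{u}} (jR : R' ⟶ R) (jU : U' ⟶ U)
    (jY : Y' ⟶ Y) [IsOpenImmersion jR] [IsOpenImmersion jU] [IsOpenImmersion jY]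
    (s' t' : R' ⟶ U') (p' : U' ⟶ Y') (hs : jR ≫ s = s' ≫ jU) (ht : jR ≫ t = t' ≫ jU)
    (hp : jU ≫ p = p' ≫ jY) (hU : jU.opensRange = p ⁻¹ᵁ jY.opensRange)
    (hR : jR.opensRange = s ⁻¹ᵁ jU.opensRange) : IsGeomQuot s' t' p' := by
  have hs' : ∀ x, s (jR x) = jU (s' x) := fun x => by
    rw [← Scheme.Hom.comp_apply, hs, Scheme.Hom.comp_apply]
  have ht' : ∀ x, t (jR x) = jU (t' x) := fun x => by
    rw [← Scheme.Hom.comp_apply, ht, Scheme.Hom.comp_apply]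
  have hp' : ∀ x, p (jU x) = jY (p' x) := fun x => by
    rw [← Scheme.Hom.comp_apply, hp, Scheme.Hom.comp_apply]
  have hUmem : ∀ x : U, p x ∈ jY.opensRange → ∃ x', jU x' = x := fun x hx => by
    have : x ∈ jU.opensRange := by rw [hU]; exact hx
    exact this
  have hRmem : ∀ x : R, s x ∈ jU.opensRange → ∃ x', jR x' = x := fun x hx => by
    have : x ∈ jR.opensRange := by rw [hR]; exact hx
    exact this
  have w : t' ≫ p' = s' ≫ p' := by
    rw [← cancel_mono jY, Category.assoc, Category.assoc, ← hp, ← Category.assoc, ← Category.assoc,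
      ← hs, ← ht, Category.assoc, Category.assoc, h.w]
  -- opens
  have key : ∀ W' : Y'.Opens, ∃ W : Y.Opens, W ≤ jY.opensRange ∧ W' = jY ⁻¹ᵁ W ∧
      p' ⁻¹ᵁ W' = jU ⁻¹ᵁ (p ⁻¹ᵁ W) ∧ p ⁻¹ᵁ W ≤ jU.opensRange := fun W' => by
    refine ⟨jY ''ᵁ W', jY.image_le_opensRange W', (jY.preimage_image_eq W').symm, ?_, ?_⟩
    · rw [← Scheme.Hom.comp_preimage, hp, Scheme.Hom.comp_preimage, jY.preimage_image_eq]
    · rw [hU]; exact p.preimage_mono (jY.image_le_opensRange W')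
  refine ⟨w, ?_, ?_, ?_, ?_⟩
  · refine ⟨.of_isOpen_preimage_iff_isOpen fun O => ⟨fun hO => ?_,
      fun hO => hO.preimage p'.continuous⟩, fun y' => ?_⟩
    rotate_left
    · obtain ⟨x, hx⟩ := h.surjective (jY y')
      obtain ⟨x', rfl⟩ := hUmem x (hx ▸ ⟨y', rfl⟩)
      exact ⟨x', jY.isOpenEmbedding.injective ((hp' x').symm.trans hx)⟩
    · have h1 : IsOpen (jY '' O) := by
        rw [h.isQuotientMap.isOpen_preimage.symm]
        have : p ⁻¹' (jY '' O) = jU '' (p' ⁻¹' O) := by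
          ext x
          constructor
          · rintro ⟨y, hy, hyx⟩
            obtain ⟨x', rfl⟩ := hUmem x (hyx ▸ ⟨y, rfl⟩)
            refine ⟨x', ?_, rfl⟩
            rw [hp'] at hyx
            rw [Set.mem_preimage, ← jY.isOpenEmbedding.injective hyx]
            exact hy
          · rintro ⟨x', hx', rfl⟩
            exact ⟨p' x', hx', (hp' x').symm⟩
        rw [this]
        exact jU.isOpenEmbedding.isOpenMap _ hO
      rw [← Set.preimage_image_eq O jY.isOpenEmbedding.injective]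
      exact h1.preimage jY.continuous
  · intro x y hxy
    obtain ⟨r, hr1, hr2⟩ := h.rel (jU x) (jU y) (by rw [hp', hp', hxy])
    obtain ⟨r', rfl⟩ := hRmem r (hr2 ▸ ⟨y, rfl⟩)
    exact ⟨r', jU.isOpenEmbedding.injective ((ht' r').symm.trans hr1),
      jU.isOpenEmbedding.injective ((hs' r').symm.trans hr2)⟩
  · intro W'
    obtain ⟨W, hW, rfl, hW2, hW3⟩ := key W'
    intro a b hab
    obtain ⟨α, rfl⟩ := (appLE_bijective jY W _ hW rfl).2 a
    obtain ⟨β, rfl⟩ := (appLE_bijective jY W _ hW rfl).2 b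
    rw [← Scheme.Hom.appLE_eq_app, appLE_apply_appLE, appLE_apply_appLE] at hab
    have hab' : jU.appLE (p ⁻¹ᵁ W) (p' ⁻¹ᵁ jY ⁻¹ᵁ W) hW2.le (p.appLE W _ le_rfl α) =
        jU.appLE (p ⁻¹ᵁ W) (p' ⁻¹ᵁ jY ⁻¹ᵁ W) hW2.le (p.appLE W _ le_rfl β) := by
      rw [appLE_apply_appLE, appLE_apply_appLE, appLE_congr_hom hp, appLE_congr_hom hp]
      exact hab
    have h2 := (appLE_bijective jU _ _ hW3 hW2).1 hab'
    rw [Scheme.Hom.appLE_eq_app] at h2
    rw [h.inj W h2]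
  · intro W'
    obtain ⟨W, hW, rfl, hW2, hW3⟩ := key W'
    intro f hf
    obtain ⟨φ, rfl⟩ := (appLE_bijective jU _ _ hW3 hW2).2 f
    have hsp : s' ⁻¹ᵁ (jU ⁻¹ᵁ (p ⁻¹ᵁ W)) = jR ⁻¹ᵁ (s ⁻¹ᵁ (p ⁻¹ᵁ W)) := by
      rw [← Scheme.Hom.comp_preimage s', ← hs, Scheme.Hom.comp_preimage]
    have htp : t' ⁻¹ᵁ (jU ⁻¹ᵁ (p ⁻¹ᵁ W)) = jR ⁻¹ᵁ (t ⁻¹ᵁ (p ⁻¹ᵁ W)) := by
      rw [← Scheme.Hom.comp_preimage t', ← ht, Scheme.Hom.comp_preimage]
    have hN : s' ⁻¹ᵁ (p' ⁻¹ᵁ jY ⁻¹ᵁ W) ⊓ t' ⁻¹ᵁ (p' ⁻¹ᵁ jY ⁻¹ᵁ W) =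
        jR ⁻¹ᵁ (s ⁻¹ᵁ (p ⁻¹ᵁ W) ⊓ t ⁻¹ᵁ (p ⁻¹ᵁ W)) := by
      rw [hW2, hsp, htp, Scheme.Hom.preimage_inf]
    have hN2 : s ⁻¹ᵁ (p ⁻¹ᵁ W) ⊓ t ⁻¹ᵁ (p ⁻¹ᵁ W) ≤ jR.opensRange := by
      rw [hR]; exact inf_le_left.trans (s.preimage_mono hW3)
    have hφ : InvSec s t (p ⁻¹ᵁ W) φ := by
      apply (appLE_bijective jR _ _ hN2 hN).1
      rw [appLE_apply_appLE, appLE_apply_appLE, appLE_congr_hom hs, appLE_congr_hom ht]
      rw [InvSec, appLE_apply_appLE, appLE_apply_appLE] at hf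
      exact hf
    obtain ⟨g, hg⟩ := h.sec W φ hφ
    refine ⟨jY.appLE W _ le_rfl g, ?_⟩
    rw [← Scheme.Hom.appLE_eq_app, appLE_apply_appLE, ← hg, ← Scheme.Hom.appLE_eq_app p,
      appLE_apply_appLE, appLE_congr_hom hp]

/-- `IsGeomQuot` is local on `Y`. -/
theorem of_openCover (s t : R ⟶ U) (p : U ⟶ Y) (w : t ≫ p = s ≫ p) {ι : Type*}
    (R' U' Y' : ι → Scheme.{u}) (jR : ∀ i, R' i ⟶ R) (jU : ∀ i, U' i ⟶ U)
    (jY : ∀ i, Y' i ⟶ Y) [∀ i, IsOpenImmersion (jR i)] [∀ i, IsOpenImmersion (jU i)]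
    [∀ i, IsOpenImmersion (jY i)]
    (s' t' : ∀ i, R' i ⟶ U' i) (p' : ∀ i, U' i ⟶ Y' i) (hs : ∀ i, jR i ≫ s = s' i ≫ jU i)
    (ht : ∀ i, jR i ≫ t = t' i ≫ jU i)
    (hp : ∀ i, jU i ≫ p = p' i ≫ jY i) (hU : ∀ i, (jU i).opensRange = p ⁻¹ᵁ (jY i).opensRange)
    (hR : ∀ i, (jR i).opensRange = s ⁻¹ᵁ (jU i).opensRange)
    (hcov : ∀ y : Y, ∃ i, y ∈ (jY i).opensRange)
    (H : ∀ i, IsGeomQuot (s' i) (t' i) (p' i)) : IsGeomQuot s t p := by
  have hs' : ∀ i x, s (jR i x) = jU i (s' i x) := fun i x => by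
    rw [← Scheme.Hom.comp_apply, hs, Scheme.Hom.comp_apply]
  have ht' : ∀ i x, t (jR i x) = jU i (t' i x) := fun i x => by
    rw [← Scheme.Hom.comp_apply, ht, Scheme.Hom.comp_apply]
  have hp' : ∀ i x, p (jU i x) = jY i (p' i x) := fun i x => by
    rw [← Scheme.Hom.comp_apply, hp, Scheme.Hom.comp_apply]
  have hUmem : ∀ i, ∀ x : U, p x ∈ (jY i).opensRange → ∃ x', jU i x' = x := fun i x hx => by
    have : x ∈ (jU i).opensRange := by rw [hU]; exact hx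
    exact this
  have key : ∀ (W : Y.Opens) (i : ι), W ≤ (jY i).opensRange →
      (p' i) ⁻¹ᵁ ((jY i) ⁻¹ᵁ W) = (jU i) ⁻¹ᵁ (p ⁻¹ᵁ W) ∧ p ⁻¹ᵁ W ≤ (jU i).opensRange :=
      fun W i hW => by
    refine ⟨?_, ?_⟩
    · rw [← Scheme.Hom.comp_preimage, ← hp, Scheme.Hom.comp_preimage]
    · rw [hU]; exact p.preimage_mono hW
  have hinj : ∀ W : Y.Opens, Function.Injective (p.app W) := by
    refine inj_of_local p fun W y hy => ?_
    obtain ⟨i, hi⟩ := hcov y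
    refine ⟨W ⊓ (jY i).opensRange, ⟨hy, hi⟩, inf_le_left, ?_⟩
    obtain ⟨h1, h2⟩ := key (W ⊓ (jY i).opensRange) i inf_le_right
    intro a b hab
    apply (appLE_bijective (jY i) _ _ inf_le_right rfl).1
    apply (H i).inj
    rw [← Scheme.Hom.appLE_eq_app, appLE_apply_appLE, appLE_apply_appLE,
      ← appLE_congr_hom (hp i), ← appLE_congr_hom (hp i)]
    · rw [← Scheme.Hom.appLE_eq_app] at hab
      have := congrArg (fun c => (jU i).appLE _ _ h1.le c) hab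
      simp only [appLE_apply_appLE] at this
      exact this
  refine ⟨w, ?_, ?_, hinj, sec_of_local s t p hinj fun W y hy => ?_⟩
  · refine ⟨.of_isOpen_preimage_iff_isOpen fun O => ⟨fun hO => ?_,
      fun hO => hO.preimage p.continuous⟩, fun y => ?_⟩
    rotate_left
    · obtain ⟨i, y', rfl⟩ := hcov y
      obtain ⟨x', rfl⟩ := (H i).surjective y'
      exact ⟨jU i x', hp' i x'⟩
    · have h1 : O = ⋃ i, (jY i) '' ((jY i) ⁻¹' O) := by
        ext y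
        constructor
        · intro hy
          obtain ⟨i, y', rfl⟩ := hcov y
          exact Set.mem_iUnion.mpr ⟨i, y', hy, rfl⟩
        · intro hy
          obtain ⟨i, y', hy', rfl⟩ := Set.mem_iUnion.mp hy
          exact hy'
      rw [h1]
      refine isOpen_iUnion fun i => (jY i).isOpenEmbedding.isOpenMap _ ?_
      rw [(H i).isQuotientMap.isOpen_preimage.symm]
      have h2 : (p' i) ⁻¹' ((jY i) ⁻¹' O) = (jU i) ⁻¹' (p ⁻¹' O) := by
        ext x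
        change jY i (p' i x) ∈ O ↔ p (jU i x) ∈ O
        rw [hp']
      rw [h2]
      exact hO.preimage (jU i).continuous
  · intro x y hxy
    obtain ⟨i, hi⟩ := hcov (p y)
    obtain ⟨x', rfl⟩ := hUmem i x (by rw [hxy]; exact hi)
    obtain ⟨y', rfl⟩ := hUmem i y hi
    obtain ⟨r', rfl, rfl⟩ := (H i).rel x' y' (by
      apply (jY i).isOpenEmbedding.injective
      rw [← hp', ← hp', hxy])
    exact ⟨jR i r', ht' i r', hs' i r'⟩
  · obtain ⟨i, hi⟩ := hcov y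
    refine ⟨W ⊓ (jY i).opensRange, ⟨hy, hi⟩, inf_le_left, ?_⟩
    obtain ⟨h1, h2⟩ := key (W ⊓ (jY i).opensRange) i inf_le_right
    intro f hf
    have hf' : InvSec (s' i) (t' i) ((p' i) ⁻¹ᵁ ((jY i) ⁻¹ᵁ (W ⊓ (jY i).opensRange)))
        ((jU i).appLE _ _ h1.le f) := by
      have hN : (s' i) ⁻¹ᵁ ((p' i) ⁻¹ᵁ ((jY i) ⁻¹ᵁ (W ⊓ (jY i).opensRange))) ⊓
          (t' i) ⁻¹ᵁ ((p' i) ⁻¹ᵁ ((jY i) ⁻¹ᵁ (W ⊓ (jY i).opensRange))) ≤
          (jR i) ⁻¹ᵁ (s ⁻¹ᵁ (p ⁻¹ᵁ (W ⊓ (jY i).opensRange)) ⊓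
            t ⁻¹ᵁ (p ⁻¹ᵁ (W ⊓ (jY i).opensRange))) := by
        have hsp : (s' i) ⁻¹ᵁ ((jU i) ⁻¹ᵁ (p ⁻¹ᵁ (W ⊓ (jY i).opensRange))) =
            (jR i) ⁻¹ᵁ (s ⁻¹ᵁ (p ⁻¹ᵁ (W ⊓ (jY i).opensRange))) := by
          rw [← Scheme.Hom.comp_preimage (s' i), ← hs, Scheme.Hom.comp_preimage]
        have htp : (t' i) ⁻¹ᵁ ((jU i) ⁻¹ᵁ (p ⁻¹ᵁ (W ⊓ (jY i).opensRange))) =
            (jR i) ⁻¹ᵁ (t ⁻¹ᵁ (p ⁻¹ᵁ (W ⊓ (jY i).opensRange))) := by
          rw [← Scheme.Hom.comp_preimage (t' i), ← ht, Scheme.Hom.comp_preimage]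
        rw [h1, hsp, htp]
        exact le_rfl
      have h3 := congrArg (fun c => (jR i).appLE _ _ hN c) hf
      simp only [appLE_apply_appLE] at h3
      rw [InvSec, appLE_apply_appLE, appLE_apply_appLE, ← appLE_congr_hom (hs i),
        ← appLE_congr_hom (ht i)]
      exact h3
    obtain ⟨g, hg⟩ := (H i).sec _ _ hf'
    obtain ⟨G, rfl⟩ := (appLE_bijective (jY i) _ _ inf_le_right rfl).2 g
    refine ⟨G, ?_⟩
    apply (appLE_bijective (jU i) _ _ h2 h1).1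
    rw [← hg, ← Scheme.Hom.appLE_eq_app, ← Scheme.Hom.appLE_eq_app, appLE_apply_appLE,
      appLE_apply_appLE, appLE_congr_hom (hp i)]

end Groth.Agent.GrpQ.H766.GeomQuotDef.IsGeomQuot
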