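import Groth.Agent.GrpQ.H766.AffineCase
import Groth.Agent.S1877
import Groth.Agent.S1881
import Mathlib.AlgebraicGeometry.Morphisms.UniversallyOpen

/-!
# Local structure of geometric quotients of finite locally free groupoids

For any geometric quotient `p : U ⟶ Y` of a groupoid scheme with finite locally free source map and orbits
contained in affine opens: `Y` is covered by affine opens `W` with `p ⁻¹ W` affine invariant, over which
`p` is the affine quotient. Consequences: `p` integral, open, `R ⟶ U ×_Y U` surjective, `Y` affine if `U` is;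
in the case of an equivalence relation `R = U ×_Y U` and `p` is finite locally free.
-/

set_option autoImplicit false
universe u
open CategoryTheory CategoryTheory.Limits AlgebraicGeometry TopologicalSpace

namespace Groth.Agent.GrpQ.H766.LocalStr

open Groth.Agent.GrpQ.H766.GeomQuotDef Groth.Agent.GrpQ.H766.GeomQuotLocal
open Groth.Agent.Grpsch Groth.Agent.Grpsch.Restrict Groth.Agent.GrpQ.H766.AffineCase

section general

variable {R U Y Y' : Scheme.{u}} {s t : R ⟶ U} {p : U ⟶ Y}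

/-- the preimage of an open of `Y` is invariant -/
theorem preimage_inv (w : t ≫ p = s ≫ p) (W : Y.Opens) :
    s ⁻¹ᵁ (p ⁻¹ᵁ W) = t ⁻¹ᵁ (p ⁻¹ᵁ W) := by
  rw [← Scheme.Hom.comp_preimage, ← Scheme.Hom.comp_preimage, w]

/-- an invariant open is the preimage of an open of `Y` -/
theorem exists_preimage_eq (h : IsGeomQuot s t p) (V : U.Opens) (hV : s ⁻¹ᵁ V = t ⁻¹ᵁ V) :
    ∃ W : Y.Opens, p ⁻¹ᵁ W = V := by
  have h1 : p ⁻¹' (p '' (V : Set U)) = V := by
    ext x
    constructor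
    · rintro ⟨v, hv, hvx⟩
      obtain ⟨r, hr1, hr2⟩ := h.rel x v hvx.symm
      have h3 : r ∈ s ⁻¹ᵁ V := by change s r ∈ V; rw [hr2]; exact hv
      rw [hV] at h3
      rw [← hr1]
      exact h3
    · intro hx
      exact ⟨x, hx, rfl⟩
  refine ⟨⟨p '' (V : Set U), ?_⟩, Opens.ext h1⟩
  rw [← h.isQuotientMap.isOpen_preimage, h1]
  exact V.isOpen

/-- two geometric quotients are isomorphic -/
theorem exists_iso (h : IsGeomQuot s t p) {p' : U ⟶ Y'} (h' : IsGeomQuot s t p') :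
    ∃ e : Y ≅ Y', p ≫ e.hom = p' := by
  refine ⟨⟨h.desc p' h'.w, h'.desc p h.w, h.hom_ext ?_, h'.hom_ext ?_⟩, h.comp_desc p' h'.w⟩
  · rw [← Category.assoc, h.comp_desc, h'.comp_desc, Category.comp_id]
  · rw [← Category.assoc, h'.comp_desc, h.comp_desc, Category.comp_id]

/-- transport of a geometric quotient along an isomorphism of the target -/
theorem comp_iso (h : IsGeomQuot s t p) (e : Y ≅ Y') : IsGeomQuot s t (p ≫ e.hom) :=
  h.restrict (𝟙 _) (𝟙 _) e.inv s t (p ≫ e.hom) (by simp) (by simp) (by simp)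
    (by rw [Scheme.Hom.opensRange_of_isIso, Scheme.Hom.opensRange_of_isIso, Scheme.Hom.preimage_top])
    (by rw [Scheme.Hom.opensRange_of_isIso, Scheme.Hom.opensRange_of_isIso, Scheme.Hom.preimage_top])

/-- any coequalizer of a pair having a geometric quotient is a geometric quotient -/
theorem of_isColimit (h : IsGeomQuot s t p) (p' : U ⟶ Y') (w' : t ≫ p' = s ≫ p')
    (hc : IsColimit (Cofork.ofπ p' w')) : IsGeomQuot s t p' := by
  have h2 := comp_iso h (IsColimit.coconePointUniqueUpToIso h.isColimit hc)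
  have h3 : p ≫ (IsColimit.coconePointUniqueUpToIso h.isColimit hc).hom = p' :=
    IsColimit.comp_coconePointUniqueUpToIso_hom h.isColimit hc WalkingParallelPair.one
  rw [h3] at h2
  exact h2

end general

section

variable {S : Scheme.{u}} {G : Grpd.GroupoidScheme S} {Y : Scheme.{u}} {p : G.U ⟶ Y}

/-- restriction of a geometric quotient of a groupoid to an open of `Y` -/
theorem isGeomQuot_restr (h : IsGeomQuot G.s G.t p) (W : Y.Opens) :
    IsGeomQuot (src G (p ⁻¹ᵁ W).ι) (tgt G (p ⁻¹ᵁ W).ι) (p ∣_ W) :=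
  h.restrict (toR G (p ⁻¹ᵁ W).ι) (p ⁻¹ᵁ W).ι W.ι _ _ _ (toR_s G _) (toR_t G _)
    (morphismRestrict_ι p W).symm
    (by rw [Scheme.Opens.opensRange_ι, Scheme.Opens.opensRange_ι])
    (by rw [Scheme.Opens.opensRange_ι, opensRange_toR G _ (preimage_inv h.w W)])

variable [IsFinite G.s] [Flat G.s] [LocallyOfFinitePresentation G.s] [IsFinite G.t] [Flat G.t]
  [LocallyOfFinitePresentation G.t]

/-- over an open `W` with `p ⁻¹ W` affine, `p` is the affine quotient of the restricted groupoid. -/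
theorem exists_iso_toQuot (h : IsGeomQuot G.s G.t p) (W : Y.Opens) (hW : IsAffineOpen (p ⁻¹ᵁ W)) :
    ∃ e : Spec (CommRingCat.of (restrict G (p ⁻¹ᵁ W).ι).invariants) ≅ W.toScheme,
      (restrict G (p ⁻¹ᵁ W).ι).toQuot ≫ e.hom = p ∣_ W :=
  exists_iso (exists_isGeomQuot_of_isAffineOpen G (p ⁻¹ᵁ W) (preimage_inv h.w W) hW).1
    (isGeomQuot_restr h W)

theorem isAffineOpen_of_preimage (h : IsGeomQuot G.s G.t p) (W : Y.Opens)
    (hW : IsAffineOpen (p ⁻¹ᵁ W)) : IsAffineOpen W := by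
  obtain ⟨e, -⟩ := exists_iso_toQuot h W hW
  exact IsAffine.of_isIso e.inv

theorem isIntegralHom_morphismRestrict (h : IsGeomQuot G.s G.t p) (W : Y.Opens)
    (hW : IsAffineOpen (p ⁻¹ᵁ W)) : IsIntegralHom (p ∣_ W) := by
  obtain ⟨e, he⟩ := exists_iso_toQuot h W hW
  have h1 := (exists_isGeomQuot_of_isAffineOpen G (p ⁻¹ᵁ W) (preimage_inv h.w W) hW).2
  have h2 : IsIntegralHom e.hom := inferInstance
  rw [← he]
  exact MorphismProperty.comp_mem @IsIntegralHom _ _ h1 h2

/-- orbits in affine opens ⟹ `Y` is covered by opens with affine preimage. -/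
theorem exists_mem_isAffineOpen (h : IsGeomQuot G.s G.t p)
    (hb : ∀ x : G.U, ∃ V : G.U.Opens, IsAffineOpen V ∧
      G.t.base '' (G.s.base ⁻¹' {x}) ⊆ (V : Set G.U)) (y : Y) :
    ∃ W : Y.Opens, y ∈ W ∧ IsAffineOpen (p ⁻¹ᵁ W) := by
  obtain ⟨x, rfl⟩ := h.surjective y
  obtain ⟨V, hV, hxV⟩ := hb x
  obtain ⟨V', hV', hxV', hinv⟩ := Groth.Agent.S1881.result S G x V hV
    (fun r hr => hxV ⟨r, hr, rfl⟩)
  obtain ⟨W, hW⟩ := exists_preimage_eq h V' hinv
  refine ⟨W, ?_, ?_⟩
  · have : x ∈ p ⁻¹ᵁ W := by rw [hW]; exact hxV'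
    exact this
  · rw [hW]; exact hV'

theorem iSup_eq_top (h : IsGeomQuot G.s G.t p)
    (hb : ∀ x : G.U, ∃ V : G.U.Opens, IsAffineOpen V ∧
      G.t.base '' (G.s.base ⁻¹' {x}) ⊆ (V : Set G.U)) :
    ⨆ W : {W : Y.Opens // IsAffineOpen (p ⁻¹ᵁ W)}, W.1 = ⊤ := by
  rw [eq_top_iff]
  intro y _
  obtain ⟨W, hy, hW⟩ := exists_mem_isAffineOpen h hb y
  exact Opens.mem_iSup.mpr ⟨⟨W, hW⟩, hy⟩

theorem isIntegralHom (h : IsGeomQuot G.s G.t p)
    (hb : ∀ x : G.U, ∃ V : G.U.Opens, IsAffineOpen V ∧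
      G.t.base '' (G.s.base ⁻¹' {x}) ⊆ (V : Set G.U)) : IsIntegralHom p := by
  rw [IsZariskiLocalAtTarget.iff_of_iSup_eq_top (P := @IsIntegralHom) _ (iSup_eq_top h hb)]
  exact fun W => isIntegralHom_morphismRestrict h W.1 W.2

theorem isAffine (h : IsGeomQuot G.s G.t p) [IsAffine G.U] : IsAffine Y := by
  have h1 := isAffineOpen_of_preimage h ⊤ (isAffineOpen_top G.U)
  have h2 : IsAffine (⊤ : Y.Opens) := h1
  exact IsAffine.of_isIso (Scheme.topIso Y).inv

omit [IsFinite G.s] [Flat G.s] [LocallyOfFinitePresentation G.s] [IsFinite G.t] in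
theorem isOpenMap (h : IsGeomQuot G.s G.t p) : IsOpenMap p := by
  intro O hO
  rw [← h.isQuotientMap.isOpen_preimage]
  have h1 : p ⁻¹' (p '' O) = G.t '' (G.s ⁻¹' O) := by
    ext x
    constructor
    · rintro ⟨v, hv, hvx⟩
      obtain ⟨r, hr1, hr2⟩ := h.rel x v hvx.symm
      exact ⟨r, by rw [Set.mem_preimage, hr2]; exact hv, hr1⟩
    · rintro ⟨r, hr, rfl⟩
      exact ⟨G.s r, hr, (h.apply_eq r).symm⟩
  rw [h1]
  exact G.t.isOpenMap _ (hO.preimage G.s.continuous)

end

end Groth.Agent.GrpQ.H766.LocalStr
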