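import Groth.Agent.Grpsch.Points
import Groth.Agent.S0115
import Mathlib.AlgebraicGeometry.Sites.Fpqc
import Mathlib.AlgebraicGeometry.ZariskisMainTheorem

/-!
# The image of a groupoid scheme in `U ×_S U`

If `j = (t, s) : R ⟶ U ×_S U` factors as `ψ ≫ τ` with `ψ : R ⟶ Y` surjective, flat and locally of
finite presentation and `τ` a monomorphism, then `Y` is again a groupoid scheme on `U`
(`imageGrpd`), with the monomorphism `τ` as its `j`.
-/

set_option autoImplicit false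

universe u

open CategoryTheory CategoryTheory.Limits AlgebraicGeometry

namespace Groth.Agent.GrpQ.H766.RelGrpd

open Groth.Agent.Grpsch.Points

variable {S : Scheme.{u}} (G : Grpd.GroupoidScheme S) {Y : Scheme.{u}} (ψ : G.R ⟶ Y)
  (τ : Y ⟶ pullback G.pU G.pU)

/-- target of the image -/
noncomputable def tY : Y ⟶ G.U := τ ≫ pullback.fst G.pU G.pU

/-- source of the image -/
noncomputable def sY : Y ⟶ G.U := τ ≫ pullback.snd G.pU G.pU

theorem hom_extY [Mono τ] {T : Scheme.{u}} {a b : T ⟶ Y} (h1 : a ≫ tY G τ = b ≫ tY G τ)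
    (h2 : a ≫ sY G τ = b ≫ sY G τ) : a = b := by
  rw [← cancel_mono τ]
  apply pullback.hom_ext
  · simpa [tY] using h1
  · simpa [sY] using h2

variable {G ψ τ}

theorem ψ_tY (h : ψ ≫ τ = G.j) : ψ ≫ tY G τ = G.t := by
  rw [tY, ← Category.assoc, h, j_fst]

theorem ψ_sY (h : ψ ≫ τ = G.j) : ψ ≫ sY G τ = G.s := by
  rw [sY, ← Category.assoc, h, j_snd]

theorem exists_i [Mono τ] [Surjective ψ] [Flat ψ] [LocallyOfFinitePresentation ψ]
    (h : ψ ≫ τ = G.j) : ∃ i : Y ⟶ Y, ψ ≫ i = G.i ≫ ψ := by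
  have key : ∀ {Z : Scheme.{u}} (a b : Z ⟶ G.R), a ≫ ψ = b ≫ ψ → a ≫ G.i ≫ ψ = b ≫ G.i ≫ ψ := ?_
  · exact ⟨EffectiveEpi.desc ψ (G.i ≫ ψ) fun _ _ => key _ _,
      EffectiveEpi.fac ψ (G.i ≫ ψ) fun _ _ => key _ _⟩
  intro Z a b hab
  have ht : a ≫ G.t = b ≫ G.t := by
    rw [← ψ_tY h, reassoc_of% hab]
  have hs : a ≫ G.s = b ≫ G.s := by
    rw [← ψ_sY h, reassoc_of% hab]
  apply hom_extY G τ
  · simp only [Category.assoc, ψ_tY h, i_t, hs]
  · simp only [Category.assoc, ψ_sY h, i_s, ht]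

theorem exists_c [Mono τ] [Surjective ψ] [Flat ψ] [LocallyOfFinitePresentation ψ]
    (h : ψ ≫ τ = G.j) : ∃ c : pullback (sY G τ) (tY G τ) ⟶ Y,
      c ≫ sY G τ = pullback.snd _ _ ≫ sY G τ ∧ c ≫ tY G τ = pullback.fst _ _ ≫ tY G τ := by
  let π : pullback G.s G.t ⟶ pullback (sY G τ) (tY G τ) :=
    pullback.map G.s G.t (sY G τ) (tY G τ) ψ ψ (𝟙 _) ((Category.comp_id _).trans (ψ_sY h).symm)
      ((Category.comp_id _).trans (ψ_tY h).symm)
  have h1 : Surjective π := MorphismProperty.pullbackMap (P := @Surjective)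
    ‹Surjective ψ› ‹Surjective ψ› (ψ_sY h).symm (ψ_tY h).symm
  have h2 : Flat π := MorphismProperty.pullbackMap (P := @Flat) ‹Flat ψ› ‹Flat ψ›
    (ψ_sY h).symm (ψ_tY h).symm
  have h3 : LocallyOfFinitePresentation π :=
    MorphismProperty.pullbackMap (P := @LocallyOfFinitePresentation)
      ‹LocallyOfFinitePresentation ψ› ‹LocallyOfFinitePresentation ψ› (ψ_sY h).symm (ψ_tY h).symm
  have hπ1 : π ≫ pullback.fst _ _ = pullback.fst _ _ ≫ ψ := pullback.lift_fst _ _ _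
  have hπ2 : π ≫ pullback.snd _ _ = pullback.snd _ _ ≫ ψ := pullback.lift_snd _ _ _
  have key : ∀ {Z : Scheme.{u}} (a b : Z ⟶ pullback G.s G.t), a ≫ π = b ≫ π →
      a ≫ G.c ≫ ψ = b ≫ G.c ≫ ψ := by
    intro Z a b hab
    have k1 : a ≫ pullback.fst _ _ ≫ ψ = b ≫ pullback.fst _ _ ≫ ψ := by
      rw [← hπ1, reassoc_of% hab]
    have k2 : a ≫ pullback.snd _ _ ≫ ψ = b ≫ pullback.snd _ _ ≫ ψ := by
      rw [← hπ2, reassoc_of% hab]
    apply hom_extY G τ
    · have := congrArg (· ≫ tY G τ) k1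
      simpa only [Category.assoc, ψ_tY h, c_t] using this
    · have := congrArg (· ≫ sY G τ) k2
      simpa only [Category.assoc, ψ_sY h, c_s] using this
  have hfac := EffectiveEpi.fac π (G.c ≫ ψ) (fun _ _ => key _ _)
  refine ⟨EffectiveEpi.desc π (G.c ≫ ψ) fun _ _ => key _ _, ?_, ?_⟩
  · rw [← cancel_epi π, reassoc_of% hfac, reassoc_of% hπ2, ψ_sY h, c_s]
  · rw [← cancel_epi π, reassoc_of% hfac, reassoc_of% hπ1, ψ_tY h, c_t]

/-- **The image groupoid**: a groupoid scheme on `U` whose scheme of arrows is the middle term of a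
factorisation of `j`. -/
theorem exists_groupoid [Mono τ] [Surjective ψ] [Flat ψ] [LocallyOfFinitePresentation ψ]
    (h : ψ ≫ τ = G.j) : ∃ (i : Y ⟶ Y) (c : pullback (sY G τ) (tY G τ) ⟶ Y),
      (i ≫ sY G τ = tY G τ ∧ i ≫ tY G τ = sY G τ) ∧
      c ≫ sY G τ = pullback.snd _ _ ≫ sY G τ ∧ c ≫ tY G τ = pullback.fst _ _ ≫ tY G τ := by
  obtain ⟨i, hi⟩ := exists_i h
  obtain ⟨c, hc1, hc2⟩ := exists_c h
  refine ⟨i, c, ⟨?_, ?_⟩, hc1, hc2⟩
  · rw [← cancel_epi ψ, reassoc_of% hi, ψ_sY h, ψ_tY h, i_s]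
  · rw [← cancel_epi ψ, reassoc_of% hi, ψ_sY h, ψ_tY h, i_t]

/-- A groupoid scheme from jointly monomorphic `t`, `s`. -/
noncomputable def ofMono {U R : Scheme.{u}} (pU : U ⟶ S) (t s : R ⟶ U)
    (ext : ∀ {T : Scheme.{u}} (a b : T ⟶ R), a ≫ t = b ≫ t → a ≫ s = b ≫ s → a = b)
    (hp : t ≫ pU = s ≫ pU) (e : U ⟶ R) (e_s : e ≫ s = 𝟙 U) (e_t : e ≫ t = 𝟙 U)
    (i : R ⟶ R) (i_s : i ≫ s = t) (i_t : i ≫ t = s) (c : pullback s t ⟶ R)
    (c_s : c ≫ s = pullback.snd s t ≫ s) (c_t : c ≫ t = pullback.fst s t ≫ t) :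
    Grpd.GroupoidScheme S where
  U := U
  R := R
  pU := pU
  pR := s ≫ pU
  s := s
  t := t
  e := e
  i := i
  c := c
  s_over := rfl
  t_over := hp
  comp_s α β h := by rw [Category.assoc, c_s, pullback.lift_snd_assoc]
  comp_t α β h := by rw [Category.assoc, c_t, pullback.lift_fst_assoc]
  assoc α β γ h₁ h₂ := by
    apply ext
    · simp only [Category.assoc, c_t, pullback.lift_fst_assoc]
    · simp only [Category.assoc, c_s, pullback.lift_snd_assoc]
  e_s := e_s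
  e_t := e_t
  comp_e α := by
    apply ext
    · simp only [Category.assoc, c_t, pullback.lift_fst_assoc]
    · simp only [Category.assoc, c_s, pullback.lift_snd_assoc, e_s, Category.comp_id]
  e_comp α := by
    apply ext
    · simp only [Category.assoc, c_t, pullback.lift_fst_assoc, e_t, Category.comp_id]
    · simp only [Category.assoc, c_s, pullback.lift_snd_assoc]
  i_s := i_s
  i_t := i_t
  comp_i α := by
    apply ext
    · simp only [Category.assoc, c_t, pullback.lift_fst_assoc, e_t, Category.comp_id]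
    · simp only [Category.assoc, c_s, pullback.lift_snd_assoc, e_s, i_s, Category.comp_id]
  i_comp α := by
    apply ext
    · simp only [Category.assoc, c_t, pullback.lift_fst_assoc, e_t, i_t, Category.comp_id]
    · simp only [Category.assoc, c_s, pullback.lift_snd_assoc, e_s, Category.comp_id]

/-- The image groupoid scheme. -/
theorem exists_image [Mono τ] [Surjective ψ] [Flat ψ] [LocallyOfFinitePresentation ψ]
    (h : ψ ≫ τ = G.j) : ∃ (i : Y ⟶ Y) (c : pullback (sY G τ) (tY G τ) ⟶ Y)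
      (hp : tY G τ ≫ G.pU = sY G τ ≫ G.pU)
      (e_s : (G.e ≫ ψ) ≫ sY G τ = 𝟙 G.U) (e_t : (G.e ≫ ψ) ≫ tY G τ = 𝟙 G.U)
      (i_s : i ≫ sY G τ = tY G τ) (i_t : i ≫ tY G τ = sY G τ)
      (c_s : c ≫ sY G τ = pullback.snd _ _ ≫ sY G τ)
      (c_t : c ≫ tY G τ = pullback.fst _ _ ≫ tY G τ),
      Mono (ofMono G.pU (tY G τ) (sY G τ) (fun _ _ => hom_extY G τ) hp (G.e ≫ ψ) e_s e_t i i_s i_t c
        c_s c_t).j := by
  obtain ⟨i, c, ⟨h1, h2⟩, h3, h4⟩ := exists_groupoid h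
  have hp : tY G τ ≫ G.pU = sY G τ ≫ G.pU := by
    simp only [tY, sY, Category.assoc, pullback.condition]
  have hes : (G.e ≫ ψ) ≫ sY G τ = 𝟙 G.U := by rw [Category.assoc, ψ_sY h, e_s]
  have het : (G.e ≫ ψ) ≫ tY G τ = 𝟙 G.U := by rw [Category.assoc, ψ_tY h, e_t]
  refine ⟨i, c, hp, hes, het, h1, h2, h3, h4, ⟨fun a b hab => ?_⟩⟩
  have := (comp_j_eq_iff _ a b).mp hab
  exact hom_extY G τ this.1 this.2

end Groth.Agent.GrpQ.H766.RelGrpd
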