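import Groth.Agent.GrpQ.H766.S4097Of

/-!
# The statement `S4097` from the statements `S4092` and `S4089`
-/

set_option autoImplicit false

universe u

open CategoryTheory CategoryTheory.Limits MonoidalCategory CartesianMonoidalCategory MonObj GrpObj AlgebraicGeometry

namespace Groth.Agent.GrpQ.H766.S4097Main

open Sga3.H775 Sga3.H775.ActGrpd
open Groth.Agent.Sga3.H775.S4095OfS4089 (Concl)
open Groth.Agent.GrpQ.H773.HasFact (HasFact)

/-- `S4097` from the factorisation theorem and `S4089`. -/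
theorem main (H92 : ∀ {X Y : Scheme.{u}} (f : X ⟶ Y) [LocallyOfFinitePresentation f]
      [Flat (pullback.fst f f)], HasFact f)
    (H89 : ∀ (S : Scheme.{u}) [IsNoetherian S] (G : Grpd.GroupoidScheme S)
      [Flat G.s] [LocallyOfFiniteType G.s] [QuasiCompact G.s] [LocallyOfFiniteType G.pU]
      [QuasiCompact G.pU] [LocallyQuasiFinite G.j] [LocallyOfFiniteType G.j], Concl G)
    (S : Scheme.{u}) [IsNoetherian S] (G X : Over S) [GrpObj G]
    [Flat G.hom] [LocallyOfFiniteType G.hom] [QuasiCompact G.hom] [LocallyOfFiniteType X.hom] [QuasiCompact X.hom]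
    (a : AlgGrp.Action G X)
    (hF : Flat (pullback.snd (lift a.act (snd G X)) (lift (𝟙 X) (𝟙 X))).left ∨ IsReduced X.left) :
    ∃ (U : X.left.Opens) (hU : a.act.left ⁻¹ᵁ U = (snd G X).left ⁻¹ᵁ U), Dense (U : Set X.left) ∧
      ∃ (V : Scheme.{u}) (p : (U : Scheme.{u}) ⟶ V)
        (w : a.act.left.resLE U ((snd G X).left ⁻¹ᵁ U) hU.ge ≫ p = ((snd G X).left ∣_ U) ≫ p) (q : V ⟶ S),
        Nonempty (IsColimit (Cofork.ofπ p w)) ∧ p ≫ q = U.ι ≫ X.hom ∧
        Surjective p ∧ Flat p ∧ LocallyOfFinitePresentation p ∧ LocallyOfFiniteType q ∧ QuasiCompact q := by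
  have i1 : Flat (actGrpd a).s := inferInstanceAs (Flat (pullback.snd G.hom X.hom))
  have i2 : LocallyOfFiniteType (actGrpd a).s :=
    inferInstanceAs (LocallyOfFiniteType (pullback.snd G.hom X.hom))
  have i3 : QuasiCompact (actGrpd a).s := inferInstanceAs (QuasiCompact (pullback.snd G.hom X.hom))
  have i4 : LocallyOfFiniteType (actGrpd a).pU := inferInstanceAs (LocallyOfFiniteType X.hom)
  have i5 : QuasiCompact (actGrpd a).pU := inferInstanceAs (QuasiCompact X.hom)
  refine S4097Of.fconcl (actGrpd a) H92 (H89 S) ?_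
  rcases hF with hF | hF
  · left
    have h1 := S4095OfS4089.isPullback_left a
    have h2 := Grpsch.Points.isPullback_stab (actGrpd a)
    have h3 := h2.isoIsPullback_hom_snd _ _ h1
    rw [← h3]
    exact (MorphismProperty.cancel_left_of_respectsIso @Flat _ _).mpr hF
  · right
    exact hF

end Groth.Agent.GrpQ.H766.S4097Main
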