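import Groth.Agent.Sga3.H775.SatFinite
import Groth.Agent.Sga3.H775.StabQF
import Groth.Agent.S0414
import Groth.Agent.GrpQ.H776.FinalStep

/-!
# The stabilizer is flat over a dense invariant open

`exists_dense_flat`: for a groupoid scheme `G` with `G.s` flat of finite type and `U` reduced and
noetherian, the stabilizer is flat over a dense invariant open.
-/

set_option autoImplicit false

universe u

open CategoryTheory CategoryTheory.Limits AlgebraicGeometry TopologicalSpace

namespace Groth.Agent.GrpQ.H766.StabFlat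

open Groth.Agent.Grpsch.Points Sga3.H775 Sga3.H775.SatFinite Sga3.H775.StabQF

variable {S : Scheme.{u}} (G : Grpd.GroupoidScheme S)

/-- `(α, β) ↦ β α⁻¹`, from pairs of arrows with the same source and target to the stabilizer. -/
noncomputable def jDiffT : pullback G.j G.j ⟶ G.stabilizer :=
  stabLift G (mul G (pullback.snd G.j G.j) (pullback.fst G.j G.j ≫ G.i) (by
      have := ((comp_j_eq_iff G _ _).mp (pullback.condition (f := G.j) (g := G.j))).2
      simp [this])) (pullback.fst G.j G.j ≫ G.t) (by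
      have := ((comp_j_eq_iff G _ _).mp (pullback.condition (f := G.j) (g := G.j))).1
      simp [this]) (by simp)

/-- The first projection of `R ×_j R` is the base change of the stabilizer along `t`. -/
theorem isPullback_jDiffT_fst :
    IsPullback (jDiffT G) (pullback.fst G.j G.j) G.stabilizerToU G.t := by
  refine ⟨⟨?_⟩, ⟨PullbackCone.IsLimit.mk _ (fun r => pullback.lift r.snd
    (mul G (r.fst ≫ stabToR G) r.snd (by rw [Category.assoc, stabToR_s, r.condition])) ?_) ?_ ?_ ?_⟩⟩
  · simp [jDiffT]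
  · rw [comp_j_eq_iff]
    constructor
    · rw [mul_t, Category.assoc, stabToR_t, r.condition]
    · rw [mul_s]
  · intro r
    apply stab_hom_ext
    simp only [jDiffT, Category.assoc, stabLift_stabToR, comp_mul]
    rw [mul_congr G _ (pullback.lift_snd _ _ _) (pullback.lift_fst_assoc _ _ _ _)]
    exact mul_inv_cancel_right G _ _ _ _
  · intro r
    exact pullback.lift_fst _ _ _
  · intro r m h1 h2
    apply pullback.hom_ext
    · rw [pullback.lift_fst, h2]
    · rw [pullback.lift_snd]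
      have h3 := congr($h1 ≫ stabToR G)
      simp only [jDiffT, Category.assoc, stabLift_stabToR, comp_mul] at h3
      have h4 : (m ≫ pullback.fst G.j G.j) ≫ G.s = (m ≫ pullback.snd G.j G.j) ≫ G.s :=
        ((comp_j_eq_iff G _ _).mp (by
          rw [Category.assoc, Category.assoc, pullback.condition])).2
      have h5 : (m ≫ pullback.snd G.j G.j) ≫ G.s = ((m ≫ pullback.fst G.j G.j) ≫ G.i) ≫ G.t := by
        rw [inv_t, h4]
      have h6 := inv_mul_cancel_right G (m ≫ pullback.snd G.j G.j) (m ≫ pullback.fst G.j G.j) h5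
        (by rw [mul_s, inv_s])
      rw [← h6]
      refine mul_congr G _ ?_ h2
      rw [← h3]
      exact mul_congr G _ rfl (Category.assoc _ _ _)

/-- restriction of the stabilizer over opens, as a pullback along `A.ι ≫ s` or `A.ι ≫ t` -/
theorem isPullback_restrict {P R F U : Scheme.{u}} {k : P ⟶ F} {f : P ⟶ R} {g : F ⟶ U} {s : R ⟶ U}
    (h : IsPullback k f g s) (A : R.Opens) (V : U.Opens) (hA : A ≤ s ⁻¹ᵁ V) :
    ∃ k' : (f ⁻¹ᵁ A).toScheme ⟶ (g ⁻¹ᵁ V).toScheme, IsPullback k' (f ∣_ A) (g ∣_ V) (s.resLE V A hA) := by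
  have h1 : IsPullback (f ⁻¹ᵁ A).ι (f ∣_ A) f A.ι := (isPullback_morphismRestrict f A).flip
  have h2 := h1.paste_horiz h
  have h3 : A.ι ≫ s = s.resLE V A hA ≫ V.ι := (Scheme.Hom.resLE_comp_ι _ _).symm
  rw [h3] at h2
  have h4 : IsPullback (g ⁻¹ᵁ V).ι (g ∣_ V) g V.ι := (isPullback_morphismRestrict g V).flip
  exact ⟨_, IsPullback.of_right' h2 h4⟩

theorem flat_sat [IsNoetherian G.R] [Flat G.t] [LocallyOfFinitePresentation G.t] (V : G.U.Opens)
    (hV : Flat (G.stabilizerToU ∣_ V)) : Flat (G.stabilizerToU ∣_ sat G G.t.isOpenMap V) := by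
  have hA : G.s ⁻¹ᵁ V ≤ G.t ⁻¹ᵁ (sat G G.t.isOpenMap V) := fun r hr => ⟨r, hr, rfl⟩
  obtain ⟨k1, hk1⟩ := isPullback_restrict (isPullback_jDiff_fst G) (G.s ⁻¹ᵁ V) V le_rfl
  obtain ⟨k2, hk2⟩ := isPullback_restrict (isPullback_jDiffT_fst G) (G.s ⁻¹ᵁ V)
    (sat G G.t.isOpenMap V) hA
  have hf : Flat (pullback.fst G.j G.j ∣_ (G.s ⁻¹ᵁ V)) :=
    MorphismProperty.of_isPullback (P := @Flat) hk1 hV
  have := GrpQ.H776.FinalStep.flat_descends.{u}
  have i1 : Flat (G.t.resLE (sat G G.t.isOpenMap V) (G.s ⁻¹ᵁ V) hA) := inferInstance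
  have i2 : Surjective (G.t.resLE (sat G G.t.isOpenMap V) (G.s ⁻¹ᵁ V) hA) := by
    refine ⟨?_⟩
    rintro ⟨x, r, hr, hrx⟩
    refine ⟨⟨r, hr⟩, Subtype.ext (Eq.trans ?_ hrx)⟩
    exact congrArg (fun f : (G.s ⁻¹ᵁ V).toScheme ⟶ G.U => f ⟨r, hr⟩)
      (Scheme.Hom.resLE_comp_ι G.t (U := sat G G.t.isOpenMap V) (V := G.s ⁻¹ᵁ V) hA)
  have i3 : QuasiCompact (G.t.resLE (sat G G.t.isOpenMap V) (G.s ⁻¹ᵁ V) hA) := by
    have h1 : CompactSpace (G.s ⁻¹ᵁ V : G.R.Opens) :=
      isCompact_iff_compactSpace.mp (NoetherianSpace.isCompact ((G.s ⁻¹ᵁ V : G.R.Opens) : Set G.R))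
    have h2 : IsLocallyNoetherian (G.s ⁻¹ᵁ V : G.R.Opens).toScheme := inferInstance
    have h3 : IsNoetherian (G.s ⁻¹ᵁ V : G.R.Opens).toScheme := { toCompactSpace := h1 }
    infer_instance
  exact MorphismProperty.of_isPullback_of_descendsAlong (P := @Flat)
    (Q := @Surjective ⊓ @Flat ⊓ @QuasiCompact) hk2.flip ⟨⟨i2, i1⟩, i3⟩ hf

/-- The stabilizer is flat over a dense invariant open. -/
theorem exists_dense_flat [IsNoetherian S] [Flat G.s] [LocallyOfFiniteType G.s] [QuasiCompact G.s]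
    [LocallyOfFiniteType G.pU] [QuasiCompact G.pU] [IsReduced G.U] :
    ∃ W : G.U.Opens, G.t ⁻¹ᵁ W = G.s ⁻¹ᵁ W ∧ Dense (W : Set G.U) ∧ Flat (G.stabilizerToU ∣_ W) := by
  have hU1 : IsLocallyNoetherian G.U := LocallyOfFiniteType.isLocallyNoetherian G.pU
  have hU2 : CompactSpace G.U := QuasiCompact.compactSpace_of_compactSpace G.pU
  have hR1 : IsLocallyNoetherian G.R := LocallyOfFiniteType.isLocallyNoetherian G.s
  have hR2 : CompactSpace G.R := QuasiCompact.compactSpace_of_compactSpace G.s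
  have hR : IsNoetherian G.R := ⟨⟩
  have ht1 : Flat G.t := (s_iff_t G @Flat).mp inferInstance
  have ht2 : LocallyOfFiniteType G.t := (s_iff_t G @LocallyOfFiniteType).mp inferInstance
  have ht3 : LocallyOfFinitePresentation G.t := inferInstance
  have hj : LocallyOfFiniteType G.j := by
    have : LocallyOfFiniteType (G.j ≫ pullback.snd G.pU G.pU) := by
      rw [j_snd]; infer_instance
    exact locallyOfFiniteType_of_comp _ (pullback.snd G.pU G.pU)
  have hj2 : QuasiCompact G.j := inferInstance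
  have hs1 : LocallyOfFiniteType G.stabilizerToU :=
    MorphismProperty.of_isPullback (P := @LocallyOfFiniteType) (isPullback_stab G) hj
  have hs2 : QuasiCompact G.stabilizerToU :=
    MorphismProperty.of_isPullback (P := @QuasiCompact) (isPullback_stab G) hj2
  obtain ⟨V, hd, hf, -⟩ := Groth.Agent.S0414.result G.stabilizerToU
  exact ⟨sat G G.t.isOpenMap V, (sat_inv G _ V).symm, hd.mono (le_sat G _ V), flat_sat G V hf⟩

end Groth.Agent.GrpQ.H766.StabFlat
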