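import Groth.Agent.GrpQ.H766.FlatCase
import Groth.Agent.GrpQ.H766.StabFlat
import Groth.Agent.GrpQ.H766.AffineCase
import Groth.Agent.GrpQ.H773.HasFact

/-!
# Quotient of a dense open when the stabilizer is flat or `U` is reduced
-/

set_option autoImplicit false

universe u

open CategoryTheory CategoryTheory.Limits AlgebraicGeometry TopologicalSpace

namespace Groth.Agent.GrpQ.H766.S4097Of

open Groth.Agent.Grpsch.Points Groth.Agent.Grpsch.Restrict Sga3.H775 FlatCase StabFlat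
open Groth.Agent.Sga3.H775.S4095OfS4089 (Concl)
open Groth.Agent.GrpQ.H773.HasFact (HasFact)

variable {S : Scheme.{u}} (G : Grpd.GroupoidScheme S)

theorem isPullback_of_exists {F F' U U' : Scheme.{u}} {k : F' ⟶ F} {π' : F' ⟶ U'} {π : F ⟶ U}
    {g : U' ⟶ U} (w : k ≫ π = π' ≫ g)
    (h : ∀ {T : Scheme.{u}} (a : T ⟶ F) (b : T ⟶ U'), a ≫ π = b ≫ g →
      ∃ l : T ⟶ F', l ≫ k = a ∧ l ≫ π' = b)
    (h' : ∀ {T : Scheme.{u}} (a b : T ⟶ F'), a ≫ k = b ≫ k → a ≫ π' = b ≫ π' → a = b) :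
    IsPullback k π' π g :=
  ⟨⟨w⟩, ⟨PullbackCone.IsLimit.mk _ (fun r => (h r.fst r.snd r.condition).choose)
    (fun r => (h r.fst r.snd r.condition).choose_spec.1)
    (fun r => (h r.fst r.snd r.condition).choose_spec.2)
    (fun r _ h1 h2 => h' _ _ (h1.trans (h r.fst r.snd r.condition).choose_spec.1.symm)
      (h2.trans (h r.fst r.snd r.condition).choose_spec.2.symm))⟩⟩

theorem stab_aux {U' : Scheme.{u}} (g : U' ⟶ G.U) {F : Scheme.{u}} (π : F ⟶ U')
    (σ : F ⟶ arrows G g) (ht : σ ≫ tgt G g = π) (hs : σ ≫ src G g = π)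
    (hl : ∀ {T : Scheme.{u}} (a : T ⟶ arrows G g) (x : T ⟶ U'), a ≫ tgt G g = x →
      a ≫ src G g = x → ∃ l : T ⟶ F, l ≫ σ = a)
    (he : ∀ {T : Scheme.{u}} (a b : T ⟶ F), a ≫ σ = b ≫ σ → a = b) :
    ∃ k, IsPullback k π G.stabilizerToU g := by
  have k1 : (σ ≫ toR G g) ≫ G.t = π ≫ g := by
    rw [Category.assoc, toR_t, reassoc_of% ht]
  have k2 : (σ ≫ toR G g) ≫ G.s = π ≫ g := by
    rw [Category.assoc, toR_s, reassoc_of% hs]
  refine ⟨stabLift G (σ ≫ toR G g) (π ≫ g) k1 k2,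
    isPullback_of_exists (stabLift_stabilizerToU _ _ _ _ _) ?_ ?_⟩
  · intro T a b hab
    have m1 : (a ≫ stabToR G) ≫ G.t = b ≫ g := by rw [Category.assoc, stabToR_t, hab]
    have m2 : (a ≫ stabToR G) ≫ G.s = b ≫ g := by rw [Category.assoc, stabToR_s, hab]
    obtain ⟨l, hl⟩ := hl (mk G g b (a ≫ stabToR G) b m1 m2) b (mk_tgt ..) (mk_src ..)
    refine ⟨l, ?_, ?_⟩
    · apply stab_hom_ext
      rw [Category.assoc, stabLift_stabToR, reassoc_of% hl, mk_toR]
    · rw [← ht, reassoc_of% hl, mk_tgt]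
  · intro T a b h1 h2
    apply he
    have h3 := congr($h1 ≫ stabToR G)
    rw [Category.assoc, stabLift_stabToR, Category.assoc, stabLift_stabToR] at h3
    apply arrows_hom_ext
    · rw [Category.assoc, Category.assoc, ht]; exact h2
    · rw [Category.assoc, Category.assoc, h3]
    · rw [Category.assoc, Category.assoc, hs]; exact h2

/-- The stabilizer of a restriction is a base change. -/
theorem exists_isPullback_stab {U' : Scheme.{u}} (g : U' ⟶ G.U) :
    ∃ k, IsPullback k (restrict G g).stabilizerToU G.stabilizerToU g :=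
  stab_aux G g (F := (restrict G g).stabilizer) (restrict G g).stabilizerToU
    (stabToR (restrict G g)) (stabToR_t (restrict G g)) (stabToR_s (restrict G g))
    (fun a x h1 h2 => ⟨stabLift (restrict G g) a x h1 h2, stabLift_stabToR _ _ _ _ _⟩)
    (fun _ _ h => stab_hom_ext _ h)

/-- transfer of coequalizers along an epimorphism and an isomorphism -/
theorem nonempty_isColimit_of_iso {A A' B B' C : Scheme.{u}} {f g : A ⟶ B} {p : B ⟶ C}
    (w : f ≫ p = g ≫ p) (h : Nonempty (IsColimit (Cofork.ofπ p w))) (e : A' ⟶ A) [Epi e]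
    (b : B ≅ B') {f' g' : A' ⟶ B'} (hf : e ≫ f ≫ b.hom = f') (hg : e ≫ g ≫ b.hom = g')
    (w' : f' ≫ b.inv ≫ p = g' ≫ b.inv ≫ p) :
    Nonempty (IsColimit (Cofork.ofπ (b.inv ≫ p) w')) := by
  obtain ⟨h⟩ := h
  have key : ∀ s : Cofork f' g', f ≫ b.hom ≫ s.π = g ≫ b.hom ≫ s.π := fun s => by
    rw [← cancel_epi e, reassoc_of% hf, reassoc_of% hg, s.condition]
  refine ⟨Cofork.IsColimit.mk _ (fun s => Cofork.IsColimit.desc h (b.hom ≫ s.π) (key s))
    (fun s => ?_) (fun s m hm => ?_)⟩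
  · have := Cofork.IsColimit.π_desc' h (b.hom ≫ s.π) (key s)
    change (b.inv ≫ p) ≫ _ = _
    change p ≫ _ = _ at this
    rw [Category.assoc, this, Iso.inv_hom_id_assoc]
  · apply Cofork.IsColimit.hom_ext h
    rw [Cofork.IsColimit.π_desc' h (b.hom ≫ s.π) (key s)]
    change p ≫ m = _
    change (b.inv ≫ p) ≫ m = _ at hm
    rw [← hm, Category.assoc, Iso.hom_inv_id_assoc]

theorem fconcl_aux (W : G.U.Opens) (hW : G.t ⁻¹ᵁ W = G.s ⁻¹ᵁ W) (hd : Dense (W : Set G.U))
    (W' : (W : Scheme.{u}).Opens) (hW' : tgt G W.ι ⁻¹ᵁ W' = src G W.ι ⁻¹ᵁ W')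
    (hd' : Dense (W' : Set (W : Scheme.{u}))) {V : Scheme.{u}} (p : (W' : Scheme.{u}) ⟶ V)
    (w0 : (tgt G W.ι).resLE W' (src G W.ι ⁻¹ᵁ W') hW'.ge ≫ p = (src G W.ι ∣_ W') ≫ p) (q : V ⟶ S)
    (h1 : Nonempty (IsColimit (Cofork.ofπ p w0))) (h2 : p ≫ q = W'.ι ≫ W.ι ≫ G.pU)
    (h3 : Surjective p) (h4 : Flat p) (h5 : LocallyOfFinitePresentation p)
    (h6 : LocallyOfFiniteType q) (h7 : QuasiCompact q) : FConcl G := by
  have hopen : IsOpenImmersion (toR G W.ι) := inferInstance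
  have hrange : (toR G W.ι).opensRange = G.s ⁻¹ᵁ W := AffineCase.opensRange_toR G W hW.symm
  let W₂ : G.U.Opens := W.ι ''ᵁ W'
  have hmem : ∀ x : (W : Scheme.{u}), W.ι x ∈ W₂ ↔ x ∈ W' := by
    intro x
    constructor
    · rintro ⟨y, hy, hyx⟩
      rwa [← W.ι.isOpenEmbedding.injective hyx]
    · exact fun hx => ⟨x, hx, rfl⟩
  have hle : W₂ ≤ W := by
    rintro _ ⟨y, -, rfl⟩
    exact y.2
  have hst : ∀ r : arrows G W.ι, (G.s (toR G W.ι r) ∈ W₂ ↔ src G W.ι r ∈ W') ∧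
      (G.t (toR G W.ι r) ∈ W₂ ↔ tgt G W.ι r ∈ W') := by
    intro r
    rw [← hmem, ← hmem, ← Scheme.Hom.comp_apply, ← Scheme.Hom.comp_apply, ← Scheme.Hom.comp_apply,
      ← Scheme.Hom.comp_apply, toR_s, toR_t]
    exact ⟨Iff.rfl, Iff.rfl⟩
  have hstW : ∀ r : arrows G W.ι, src G W.ι r ∈ W' ↔ tgt G W.ι r ∈ W' := by
    intro r
    change r ∈ src G W.ι ⁻¹ᵁ W' ↔ r ∈ tgt G W.ι ⁻¹ᵁ W'
    rw [hW']
  have himg : toR G W.ι ''ᵁ (src G W.ι ⁻¹ᵁ W') = G.s ⁻¹ᵁ W₂ := by
    ext r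
    constructor
    · rintro ⟨r', hr', rfl⟩
      exact (hst r').1.mpr hr'
    · intro hr
      have : r ∈ (toR G W.ι).opensRange := by
        rw [hrange]
        exact hle hr
      obtain ⟨r', rfl⟩ := this
      exact ⟨r', (hst r').1.mp hr, rfl⟩
  have hW₂ : G.t ⁻¹ᵁ W₂ = G.s ⁻¹ᵁ W₂ := by
    ext r
    have key : ∀ r' : arrows G W.ι, G.t (toR G W.ι r') ∈ W₂ ↔ G.s (toR G W.ι r') ∈ W₂ := by
      intro r'
      rw [(hst r').1, (hst r').2, hstW]
    constructor
    · intro hr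
      have : r ∈ (toR G W.ι).opensRange := by
        rw [hrange, ← hW]
        exact hle hr
      obtain ⟨r', rfl⟩ := this
      exact (key r').mp hr
    · intro hr
      have : r ∈ (toR G W.ι).opensRange := by
        rw [hrange]
        exact hle hr
      obtain ⟨r', rfl⟩ := this
      exact (key r').mpr hr
  let eU : (W' : Scheme.{u}) ≅ W₂ := W.ι.isoImage W'
  have heU : eU.hom ≫ W₂.ι = W'.ι ≫ W.ι := Scheme.Hom.isoImage_hom_ι _ _
  let eR : (G.s ⁻¹ᵁ W₂).toScheme ≅ (src G W.ι ⁻¹ᵁ W').toScheme :=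
    (G.R.isoOfEq himg).symm ≪≫ ((toR G W.ι).isoImage (src G W.ι ⁻¹ᵁ W')).symm
  have heR : eR.hom ≫ (src G W.ι ⁻¹ᵁ W').ι ≫ toR G W.ι = (G.s ⁻¹ᵁ W₂).ι := by
    simp [eR]
  have e1 : eR.hom ≫ (tgt G W.ι).resLE W' (src G W.ι ⁻¹ᵁ W') hW'.ge ≫ eU.hom =
      G.t.resLE W₂ (G.s ⁻¹ᵁ W₂) hW₂.ge := by
    rw [← cancel_mono W₂.ι, Category.assoc, Category.assoc, heU, Scheme.Hom.resLE_comp_ι_assoc,
      Scheme.Hom.resLE_comp_ι, ← heR, ← toR_t]
    simp only [Category.assoc]
  have e2 : eR.hom ≫ (src G W.ι ∣_ W') ≫ eU.hom = G.s ∣_ W₂ := by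
    rw [← cancel_mono W₂.ι, Category.assoc, Category.assoc, heU, morphismRestrict_ι_assoc,
      morphismRestrict_ι, ← heR, ← toR_s]
    simp only [Category.assoc]
  have w' : G.t.resLE W₂ (G.s ⁻¹ᵁ W₂) hW₂.ge ≫ eU.inv ≫ p = (G.s ∣_ W₂) ≫ eU.inv ≫ p := by
    rw [← e1, ← e2]
    simp only [Category.assoc, Iso.hom_inv_id_assoc, w0]
  refine ⟨W₂, hW₂, ?_, V, eU.inv ≫ p, w', q, nonempty_isColimit_of_iso w0 h1 eR.hom eU e1 e2 w', ?_,
    inferInstance, inferInstance, inferInstance, h6, h7⟩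
  · have hdr : DenseRange W.ι := by
      rw [DenseRange, ← Scheme.Hom.coe_opensRange, Scheme.Opens.opensRange_ι]
      exact hd
    exact hdr.dense_image W.ι.continuous hd'
  · rw [Category.assoc, h2, Iso.inv_comp_eq, reassoc_of% heU]

/-- From the restriction to a dense invariant open. -/
theorem fconcl_of_restrict (W : G.U.Opens) (hW : G.t ⁻¹ᵁ W = G.s ⁻¹ᵁ W) (hd : Dense (W : Set G.U))
    (h : FConcl (restrict G W.ι)) : FConcl G := by
  obtain ⟨W', hW', hd', V, p, w, q, h1, h2, h3, h4, h5, h6, h7⟩ := h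
  exact fconcl_aux G W hW hd W' hW' hd' p w q h1 h2 h3 h4 h5 h6 h7

/-- **Main theorem for groupoids**: the factorisation theorem and the quotient theorem for
quasi-finite `j` give a flat quotient of a dense saturated open. -/
theorem fconcl [IsNoetherian S] [Flat G.s] [LocallyOfFiniteType G.s] [QuasiCompact G.s]
    [LocallyOfFiniteType G.pU] [QuasiCompact G.pU]
    (H92 : ∀ {X Y : Scheme.{u}} (f : X ⟶ Y) [LocallyOfFinitePresentation f]
      [Flat (pullback.fst f f)], HasFact f)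
    (H89 : ∀ (G' : Grpd.GroupoidScheme S)
      [Flat G'.s] [LocallyOfFiniteType G'.s] [QuasiCompact G'.s] [LocallyOfFiniteType G'.pU]
      [QuasiCompact G'.pU] [LocallyQuasiFinite G'.j] [LocallyOfFiniteType G'.j], Concl G')
    (hF : Flat G.stabilizerToU ∨ IsReduced G.U) : FConcl G := by
  obtain ⟨W, hW, hd, hf⟩ : ∃ W : G.U.Opens, G.t ⁻¹ᵁ W = G.s ⁻¹ᵁ W ∧ Dense (W : Set G.U) ∧
      Flat (G.stabilizerToU ∣_ W) := by
    rcases hF with hF | hF
    · refine ⟨⊤, rfl, ?_, IsZariskiLocalAtTarget.restrict hF ⊤⟩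
      rw [Opens.coe_top]
      exact dense_univ
    · exact exists_dense_flat G
  refine fconcl_of_restrict G W hW hd ?_
  have hU1 : IsLocallyNoetherian G.U := LocallyOfFiniteType.isLocallyNoetherian G.pU
  have hU2 : CompactSpace G.U := QuasiCompact.compactSpace_of_compactSpace G.pU
  have hU : IsNoetherian G.U := ⟨⟩
  have i1 : Flat (restrict G W.ι).s :=
    MorphismProperty.of_isPullback (P := @Flat) (AffineCase.isPullback_src G W hW.symm).flip
      inferInstance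
  have i2 : LocallyOfFiniteType (restrict G W.ι).s :=
    MorphismProperty.of_isPullback (P := @LocallyOfFiniteType)
      (AffineCase.isPullback_src G W hW.symm).flip inferInstance
  have i3 : QuasiCompact (restrict G W.ι).s :=
    MorphismProperty.of_isPullback (P := @QuasiCompact) (AffineCase.isPullback_src G W hW.symm).flip
      inferInstance
  have i4 : LocallyOfFiniteType (restrict G W.ι).pU :=
    inferInstanceAs (LocallyOfFiniteType (W.ι ≫ G.pU))
  have hWc : CompactSpace (W : G.U.Opens) :=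
    isCompact_iff_compactSpace.mp (NoetherianSpace.isCompact (W : Set G.U))
  have hWn : IsNoetherian (W : Scheme.{u}) := { toCompactSpace := hWc }
  have i5 : QuasiCompact (restrict G W.ι).pU :=
    inferInstanceAs (QuasiCompact (W.ι ≫ G.pU))
  have hstab : Flat (restrict G W.ι).stabilizerToU := by
    obtain ⟨k, hk⟩ := exists_isPullback_stab G W.ι
    have h1 : IsPullback (G.stabilizerToU ⁻¹ᵁ W).ι (G.stabilizerToU ∣_ W) G.stabilizerToU W.ι :=
      (isPullback_morphismRestrict _ W).flip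
    have e := hk.isoIsPullback_hom_snd _ _ h1
    rw [← e]
    exact (MorphismProperty.cancel_left_of_respectsIso @Flat _ _).mpr hf
  have hj1 : LocallyOfFiniteType (restrict G W.ι).j := by
    have : LocallyOfFiniteType ((restrict G W.ι).j ≫
        pullback.snd (restrict G W.ι).pU (restrict G W.ι).pU) := by
      rw [j_snd]; exact i2
    exact locallyOfFiniteType_of_comp _ (pullback.snd (restrict G W.ι).pU (restrict G W.ι).pU)
  have hpp : IsLocallyNoetherian (pullback (restrict G W.ι).pU (restrict G W.ι).pU) := by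
    have : IsLocallyNoetherian (restrict G W.ι).U := inferInstanceAs (IsLocallyNoetherian W)
    exact LocallyOfFiniteType.isLocallyNoetherian
      (pullback.fst (restrict G W.ι).pU (restrict G W.ι).pU)
  have hj2 : LocallyOfFinitePresentation (restrict G W.ι).j := inferInstance
  have hfst : Flat (pullback.fst (restrict G W.ι).j (restrict G W.ι).j) :=
    MorphismProperty.of_isPullback (P := @Flat)
      (StabQF.isPullback_jDiff_fst (restrict G W.ι)) hstab
  obtain ⟨Y, ψ, τ, k1, k2, k3, k4, k5⟩ := H92 (restrict G W.ι).j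
  exact flatCase (restrict G W.ι) H89 ψ τ k5

end Groth.Agent.GrpQ.H766.S4097Of
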